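import Cfsg.Agent.H466.O8S.SpTri
import Cfsg.Agent.H966.PSpAut

/-!
# S3938-OPLUS8: O6 (`sp6_conj`), socle `PSp₆(q)`, all `q` (helper466)
-/

set_option autoImplicit false

namespace Cfsg.Agent.H466.O8S

open Module Cfsg
open Cfsg.Agent.H436 (Prim)
open Cfsg.Agent.H823.O8S (RW RK mt mt_dvd)
open Cfsg.Agent.ClassicalGeometry.SympBasic Cfsg.Agent.ClassicalGeometry.SympAutSemi
  Cfsg.Agent.ClassicalGeometry.SympGamma

/-! ### numbers -/

section num

variable {p a r k : ℕ}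

theorem RW_coprime (h : RW p a r k) : Nat.Coprime (a * (p ^ a - 1)) (r ^ k) := by
  have hr := h.prim.prime
  apply Nat.Coprime.pow_right
  rw [Nat.coprime_comm, hr.coprime_iff_not_dvd]
  intro h1
  have ha := h.ha
  rcases hr.dvd_mul.1 h1 with h2 | h2
  · have h3 := Nat.le_of_dvd (by omega) h2
    have h4 : r ∣ p ^ (r - 1) - 1 := by
      have : Fact r.Prime := ⟨hr⟩
      have h5 : (p : ZMod r) ≠ 0 := by
        intro h0
        exact h.prim.not_dvd ((ZMod.natCast_eq_zero_iff p r).1 h0)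
      have h6 := ZMod.pow_card_sub_one_eq_one h5
      have h7 : ((p ^ (r - 1) - 1 : ℕ) : ZMod r) = 0 := by
        rw [Nat.cast_sub (Nat.one_le_pow _ _ h.hp.pos), Nat.cast_pow, h6]
        simp
      exact (ZMod.natCast_eq_zero_iff _ _).1 h7
    have h5 := (h.prim.dvd_iff _).1 h4
    have h6 := Nat.le_of_dvd (by have := hr.two_le; omega) h5
    omega
  · have h3 := (h.prim.dvd_iff a).1 h2
    have h4 := Nat.le_of_dvd (by omega) h3
    omega

theorem RW_exists (h : RW p a r k) : ∃ N : ℕ, N ≡ 1 [MOD r ^ k] ∧ a * (p ^ a - 1) ∣ N := by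
  obtain ⟨N, hN1, hN2⟩ := Nat.chineseRemainder (RW_coprime h) 0 1
  exact ⟨N, hN2, (Nat.modEq_zero_iff_dvd).1 hN1⟩

end num

variable {K : Type} [Field K]

theorem scal_pow (s : Kˣ) (n : ℕ) : scal 3 K s ^ n = scal 3 K (s ^ n) := by
  induction n with
  | zero =>
    ext1 v
    rw [pow_zero, pow_zero, Equiv.Perm.one_apply, scal_apply, Units.val_one, one_smul]
  | succ n ih =>
    rw [pow_succ, ih]
    ext1 v
    rw [Equiv.Perm.mul_apply, scal_apply, scal_apply, scal_apply, smul_smul, pow_succ, Units.val_mul]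

theorem scal_eq_one {s : Kˣ} (h : scal 3 K s = 1) : s = 1 := by
  have h1 := congrFun (DFunLike.congr_fun h (Pi.single (Sum.inl 0) 1)) (Sum.inl 0)
  rw [scal_apply, Equiv.Perm.one_apply, Pi.smul_apply, Pi.single_eq_same, smul_eq_mul, mul_one] at h1
  exact Units.ext h1

theorem Psi_eq_one {g : semiSim 3 K} {s : Kˣ} (h : g.1 = scal 3 K s) : Psi 3 K g = 1 := by
  have h1 : scal 3 K s ∈ semiSim 3 K := h ▸ g.2
  have h2 : g = ⟨scal 3 K s, h1⟩ := Subtype.ext h
  rw [h2, Psi_scal]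

/-- the additive map of a semisimilitude -/
def addOf (g : semiSim 3 K) : (Fin 3 ⊕ Fin 3 → K) →+ (Fin 3 ⊕ Fin 3 → K) where
  toFun := g.1
  map_add' := by
    obtain ⟨g, φ, l, hl, hg⟩ := g
    exact hg.1
  map_zero' := by
    obtain ⟨g, φ, l, hl, hg⟩ := g
    have := hg.1 0 0
    rw [add_zero] at this
    exact left_eq_add.1 this

theorem addOf_apply (g : semiSim 3 K) (v : Fin 3 ⊕ Fin 3 → K) : addOf g v = g.1 v := rfl

/-- multiplication by a scalar as an additive map -/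
def sAdd (s : K) : (Fin 3 ⊕ Fin 3 → K) →+ (Fin 3 ⊕ Fin 3 → K) := DistribSMul.toAddMonoidHom _ s

theorem sAdd_apply (s : K) (v : Fin 3 ⊕ Fin 3 → K) : sAdd s v = s • v := rfl

theorem recog6 [Finite K] (α : MulAut (PSp 3 K)) : ∃ g : semiSim 3 K, Psi 3 K g = α :=
  ClassicalGeometry.SympAutExists.exists_semi (by norm_num) α
    (ClassicalGeometry.SympAutOddA.recog (by norm_num) (Or.inl le_rfl) α)

/-- **a linear irreducible representative of `x`** -/
theorem exists_X [Fintype K] {p a r k : ℕ} (hK : Fintype.card K = p ^ a) (h : RW p a r k) {α : MulAut (PSp 3 K)}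
    (hα : orderOf α = r ^ k) : ∃ X : semiSim 3 K, Psi 3 K X = α ∧ (∀ (s : K) v, X.1 (s • v) = s • X.1 v) ∧
      X ^ r ^ k = 1 ∧ (∃ v, X.1 v ≠ v) ∧
      ∀ W : AddSubgroup (Fin 3 ⊕ Fin 3 → K), (∀ v ∈ W, addOf X v ∈ W) → W = ⊥ ∨ W = ⊤ := by
  have : Fact p.Prime := ⟨h.hp⟩
  obtain ⟨X₀, hX₀⟩ := recog6 α
  obtain ⟨N, hN1, hN2⟩ := RW_exists h
  obtain ⟨φ, l, hl, hs⟩ := X₀.2
  have hcard := Lib.FieldAutCard.card_ringAut h.ha hK
  have hφ : φ ^ N = 1 := by
    have : Finite (K ≃+* K) := Nat.finite_of_card_ne_zero (by rw [hcard]; have := h.ha; omega)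
    have h1 : φ ^ a = 1 := by rw [← hcard]; exact pow_card_eq_one'
    obtain ⟨m, hm⟩ := dvd_trans (Dvd.intro _ rfl) hN2
    rw [hm, pow_mul, h1, one_pow]
  have h1 : Psi 3 K (X₀ ^ r ^ k) = 1 := by rw [map_pow, hX₀, ← hα, pow_orderOf_eq_one]
  obtain ⟨s, hs'⟩ := exists_scal_of_Psi_eq_one (by norm_num) _ h1
  have hsN : s ^ N = 1 := by
    obtain ⟨m, hm⟩ := dvd_trans (Dvd.intro_left _ rfl) hN2
    have h2 : s ^ (p ^ a - 1) = 1 := by
      apply Units.ext
      rw [Units.val_pow_eq_pow_val, ← hK, FiniteField.pow_card_sub_one_eq_one _ s.ne_zero, Units.val_one]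
    rw [hm, pow_mul, h2, one_pow]
  have hXk : (X₀ ^ N) ^ r ^ k = 1 := by
    rw [← pow_mul, mul_comm, pow_mul]
    apply Subtype.ext
    rw [SubgroupClass.coe_pow, hs', scal_pow, hsN]
    ext1 v
    rw [scal_apply, Units.val_one, one_smul]
    rfl
  have hΨ : Psi 3 K (X₀ ^ N) = α := by
    rw [map_pow, hX₀]
    conv_rhs => rw [← pow_one α]
    rw [pow_eq_pow_iff_modEq, hα]
    exact hN1
  have hlin : ∀ (s : K) v, (X₀ ^ N).1 (s • v) = s • (X₀ ^ N).1 v := by
    intro s v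
    have h2 := (H966.PSpField.isSemi_pow hs N).2.1 s v
    rw [hφ] at h2
    rw [SubgroupClass.coe_pow]
    exact h2
  have hne : ∃ v, (X₀ ^ N).1 v ≠ v := by
    by_contra hcon
    push Not at hcon
    have h2 : X₀ ^ N = 1 := Subtype.ext (Equiv.ext hcon)
    rw [h2, map_one] at hΨ
    rw [← hΨ, orderOf_one] at hα
    have h3 : 1 < r ^ k := Nat.one_lt_pow (by have := h.hk; omega) h.prim.prime.one_lt
    omega
  refine ⟨X₀ ^ N, hΨ, hlin, hXk, hne, fun W hW => ?_⟩
  have ha := h.ha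
  refine irr_add (p := p) (n := 6 * a) (r := r) (k := k) h.hp (by omega) h.prim ?_ ?_ hne hW
  · rw [Nat.card_eq_fintype_card, Fintype.card_fun, hK, ← pow_mul, Fintype.card_sum, Fintype.card_fin, mul_comm]
  · intro v
    have h2 : ∀ (n : ℕ) v, ((addOf (X₀ ^ N))^[n]) v = ((X₀ ^ N) ^ n).1 v := by
      intro n
      induction n with
      | zero => intro v; rfl
      | succ n ih =>
        intro v
        rw [Function.iterate_succ_apply', ih, pow_succ']
        rfl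
    rw [h2, hXk]
    rfl

/-- **the three conjugates in the automorphism group** -/
theorem core [Fintype K] {p a r k : ℕ} (hK : Fintype.card K = p ^ a) (h : RW p a r k) {α β : MulAut (PSp 3 K)}
    (hα : orderOf α = r ^ k) (hβ : orderOf β = mt (p ^ a)) (hc : α * β = β * α) :
    ∃ w : Fin 3 → PSp 3 K, (∀ i, β * (MulAut.conj (w i) * β * (MulAut.conj (w i))⁻¹) =
        (MulAut.conj (w i) * β * (MulAut.conj (w i))⁻¹) * β) ∧
      (∀ i (n : ℕ), MulAut.conj (w i) * β * (MulAut.conj (w i))⁻¹ ≠ β ^ n) ∧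
      (MulAut.conj (w 0) * β * (MulAut.conj (w 0))⁻¹) * (MulAut.conj (w 1) * β * (MulAut.conj (w 1))⁻¹) *
        (MulAut.conj (w 2) * β * (MulAut.conj (w 2))⁻¹) = β := by
  have hq4 := h.four
  obtain ⟨X, hX, hXlin, hXk, -, hI⟩ := exists_X hK h hα
  obtain ⟨T₀, hT₀⟩ := recog6 β
  -- `T₀` commutes with `X`
  have hTX : ∀ v, T₀.1 (X.1 v) = X.1 (T₀.1 v) := by
    have h1 : Psi 3 K (T₀ * X * T₀⁻¹ * X⁻¹) = 1 := by
      rw [map_mul, map_mul, map_mul, map_inv, map_inv, hX, hT₀, ← hc]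
      group
    obtain ⟨s, hs⟩ := exists_scal_of_Psi_eq_one (by norm_num) _ h1
    have h2 : (T₀ * X * T₀⁻¹ : semiSim 3 K).1 = scal 3 K s * X.1 := by
      rw [← hs, ← Subgroup.coe_mul, inv_mul_cancel_right]
    have hcomm : Commute (scal 3 K s) X.1 := by
      refine Equiv.ext fun v => ?_
      change (s : K) • X.1 v = X.1 ((s : K) • v)
      rw [hXlin]
    have h3 : (T₀ * X * T₀⁻¹) ^ r ^ k = 1 := by rw [conj_pow, hXk, mul_one, mul_inv_cancel]
    have h4 : scal 3 K (s ^ r ^ k) = 1 := by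
      have h5 := congrArg Subtype.val h3
      rw [SubgroupClass.coe_pow, h2, hcomm.mul_pow, ← SubgroupClass.coe_pow, hXk] at h5
      rw [← scal_pow]
      exact h5
    have h5 := scal_eq_one h4
    have h6 : s ^ (p ^ a - 1) = 1 := by
      apply Units.ext
      rw [Units.val_pow_eq_pow_val, ← hK, FiniteField.pow_card_sub_one_eq_one _ s.ne_zero, Units.val_one]
    have h7 : Nat.gcd (r ^ k) (p ^ a - 1) = 1 := (RW_coprime h).coprime_mul_left.symm
    have h8 : s = 1 := by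
      have h9 := pow_gcd_eq_one.2 ⟨h5, h6⟩
      rwa [h7, pow_one] at h9
    have h9 : (T₀ * X * T₀⁻¹ : semiSim 3 K) = X := by
      apply Subtype.ext
      rw [h2, h8]
      ext1 v
      rw [Equiv.Perm.mul_apply, scal_apply, Units.val_one, one_smul]
    have h10 := mul_inv_eq_iff_eq_mul.1 h9
    exact fun v => DFunLike.congr_fun (congrArg Subtype.val h10) v
  -- `T₀` is linear
  have hlin : ∀ (s : K) v, T₀.1 (s • v) = s • T₀.1 v := fun s v =>
    comm_of_comm hI (f := addOf T₀) (g := sAdd s) hTX (fun v => (hXlin s v).symm) v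
  obtain ⟨φ, l, hl, hs⟩ := T₀.2
  obtain ⟨v0, hv0⟩ := exists_ne (0 : Fin 3 ⊕ Fin 3 → K)
  have hT0 : T₀.1 0 = 0 := map_zero (addOf T₀)
  have hB : ∀ u v, sympForm 3 K (T₀.1 u) (T₀.1 v) = l * sympForm 3 K u v := by
    have h1 : ∀ s : K, φ s = s := by
      intro s
      have h2 : (φ s - s) • T₀.1 v0 = 0 := by rw [sub_smul, ← hs.2.1, hlin, sub_self]
      exact sub_eq_zero.1 ((smul_eq_zero.1 h2).resolve_right (fun h3 => hv0 (T₀.1.injective (h3.trans hT0.symm))))
    intro u v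
    rw [hs.2.2, h1]
  let T : Module.End K (Fin 3 ⊕ Fin 3 → K) :=
    { toFun := T₀.1
      map_add' := hs.1
      map_smul' := hlin }
  have hT : ∀ v, T v = T₀.1 v := fun _ => rfl
  have hTpow : ∀ (n : ℕ) v, (T ^ n) v = (T₀ ^ n).1 v := by
    intro n
    induction n with
    | zero => intro v; rfl
    | succ n ih =>
      intro v
      rw [pow_succ', Module.End.mul_apply, ih, pow_succ']
      rfl
  have hmt := h.mt_three
  have hI' : ∀ f : Module.End K (Fin 3 ⊕ Fin 3 → K), (∀ v, f (addOf X v) = addOf X (f v)) → ∀ v, v ≠ 0 → f v = 0 → f = 0 := by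
    intro f hf v hv hfv
    have h1 := eq_zero_of_apply hI (f := f.toAddMonoidHom) hf hv hfv
    exact LinearMap.ext fun w => DFunLike.congr_fun h1 w
  obtain ⟨c, hQ⟩ : ∃ c, QT T c l := by
    refine quad h.hp hK (X := addOf X) (fun s v => hXlin s v) hI' hTX hl hB ?_ ?_
    · have h1 : Psi 3 K (T₀ ^ (Fintype.card K + 1)) = 1 := by
        obtain ⟨m, hm⟩ := mt_dvd (p ^ a) (by omega)
        rw [map_pow, hT₀, hK, hm, pow_mul, ← hβ, pow_orderOf_eq_one, one_pow]
      obtain ⟨s, hs⟩ := exists_scal_of_Psi_eq_one (by norm_num) _ h1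
      refine ⟨s, LinearMap.ext fun v => ?_⟩
      rw [hTpow, hs, scal_apply, LinearMap.smul_apply, Module.End.one_apply]
    · intro e
      by_contra hcon
      push Not at hcon
      have he : e ≠ 0 := by
        rintro rfl
        have h1 := hcon v0
        rw [zero_smul, hT, hT] at h1
        exact hv0 (T₀.1.injective ((T₀.1.injective (h1.trans hT0.symm)).trans hT0.symm))
      have h1 : (T₀ ^ 2).1 = scal 3 K (Units.mk0 e he) := by
        ext1 v
        rw [scal_apply, Units.val_mk0, ← hcon v, ← hTpow, pow_two]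
        rfl
      have h2 := Psi_eq_one h1
      rw [map_pow, hT₀] at h2
      have h3 := orderOf_dvd_of_pow_eq_one h2
      rw [hβ] at h3
      have h4 := Nat.le_of_dvd (by norm_num) h3
      omega
  obtain ⟨u, hu⟩ := hQ.exists_orth 3 le_rfl
  obtain ⟨x, y, hxy⟩ := hQ.exists_norm
  -- the conjugating elements
  have hA : ∀ i, LinearMap.toMatrix' (wm T c l x y (u i)) ∈ Matrix.symplecticGroup (Fin 3) K := by
    intro i
    rw [mem_symplecticGroup_iff]
    intro v v'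
    rw [LinearMap.toMatrix'_mulVec, LinearMap.toMatrix'_mulVec, wm_iso hxy (hu.ne i)]
  let A : Fin 3 → Matrix.symplecticGroup (Fin 3) K := fun i => ⟨_, hA i⟩
  have hAv : ∀ i v, rho 3 K (A i) v = wm T c l x y (u i) v := fun i v => by
    rw [rho_apply]
    exact LinearMap.toMatrix'_mulVec _ _
  have hAm : ∀ i, rho 3 K (A i) ∈ semiSim 3 K := fun i => ⟨RingEquiv.refl K, 1, one_ne_zero, isSemi_rho (A i)⟩
  let g : Fin 3 → semiSim 3 K := fun i => ⟨rho 3 K (A i), hAm i⟩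
  have hg : ∀ i, Psi 3 K (g i) = MulAut.conj (QuotientGroup.mk (A i)) := fun i => H966.PSpAut.Psi_rho (A i) (hAm i)
  have hS : ∀ i v, (g i * T₀ * (g i)⁻¹).1 v = Tc T c (u i) v := by
    intro i v
    obtain ⟨v', rfl⟩ := (g i).1.surjective v
    have h1 : (g i * T₀ * (g i)⁻¹).1 ((g i).1 v') = (g i).1 (T₀.1 v') := by
      have h2 : (g i * T₀ * (g i)⁻¹) * g i = g i * T₀ := inv_mul_cancel_right _ _
      exact DFunLike.congr_fun (congrArg Subtype.val h2) v'
    rw [h1]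
    change rho 3 K (A i) (T v') = Tc T c (u i) (rho 3 K (A i) v')
    rw [hAv, hAv, hQ.wm_T x y (hu.ne i)]
  have hΨ : ∀ i, MulAut.conj (QuotientGroup.mk (A i) : PSp 3 K) * β * (MulAut.conj (QuotientGroup.mk (A i) : PSp 3 K))⁻¹ =
      Psi 3 K (g i * T₀ * (g i)⁻¹) := by
    intro i
    rw [map_mul, map_mul, map_inv, hg, hT₀]
  refine ⟨fun i => QuotientGroup.mk (A i), fun i => ?_, fun i n => ?_, ?_⟩
  · rw [hΨ, ← hT₀, ← map_mul, ← map_mul]
    congr 1
    apply Subtype.ext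
    ext1 v
    change T ((g i * T₀ * (g i)⁻¹).1 v) = (g i * T₀ * (g i)⁻¹).1 (T v)
    rw [hS, hS, hQ.Tc_comm]
  · rw [hΨ, ← hT₀, ← map_pow]
    intro h0
    have h1 : Psi 3 K ((g i * T₀ * (g i)⁻¹) * (T₀ ^ n)⁻¹) = 1 := by
      rw [map_mul, map_inv, h0, mul_inv_cancel]
    obtain ⟨μ, hμ⟩ := exists_scal_of_Psi_eq_one (by norm_num) _ h1
    have h2 : ∀ v, Tc T c (u i) v = (μ : K) • (T ^ n) v := by
      intro v
      rw [← hS, hTpow]
      have h3 : ((g i * T₀ * (g i)⁻¹) * (T₀ ^ n)⁻¹) * T₀ ^ n = g i * T₀ * (g i)⁻¹ := inv_mul_cancel_right _ _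
      have h4 := DFunLike.congr_fun (congrArg Subtype.val h3) v
      rw [← h4]
      change (((g i * T₀ * (g i)⁻¹) * (T₀ ^ n)⁻¹ : semiSim 3 K).1) ((T₀ ^ n).1 v) = _
      rw [hμ, scal_apply]
    obtain ⟨j, hj⟩ : ∃ j, j ≠ i := exists_ne i
    have hpowX : ∀ v, (T ^ n) (addOf X v) = addOf X ((T ^ n) v) := by
      have : ∀ (n : ℕ) v, (T ^ n) (addOf X v) = addOf X ((T ^ n) v) := by
        intro n
        induction n with
        | zero => intro v; rfl
        | succ n ih =>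
          intro v
          rw [pow_succ', Module.End.mul_apply, Module.End.mul_apply, ih]
          exact hTX _
      exact this n
    have hXs : ∀ (s : K) v, addOf X (s • v) = s • addOf X v := hXlin
    have hTX' : ∀ v, T (addOf X v) = addOf X (T v) := hTX
    have hune : ∀ i, u i ≠ 0 := by
      intro i h0
      apply hu.ne i
      rw [h0, sympForm_zero_left]
    have h3 := hI' (c • (1 : Module.End K (Fin 3 ⊕ Fin 3 → K)) - T - (μ : K) • T ^ n) (fun v => by
      simp only [LinearMap.sub_apply, LinearMap.smul_apply, Module.End.one_apply, hpowX, hTX', map_sub, hXs]) (u i)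
      (hune i) (by
        rw [LinearMap.sub_apply, LinearMap.sub_apply, LinearMap.smul_apply, LinearMap.smul_apply, Module.End.one_apply,
          ← h2, Tc_self (hu.ne i), sub_self])
    have h4 := hI' (T - (μ : K) • T ^ n) (fun v => by
      simp only [LinearMap.sub_apply, LinearMap.smul_apply, hpowX, hTX', map_sub, hXs]) (u j)
      (hune j) (by
        rw [LinearMap.sub_apply, LinearMap.smul_apply, ← h2, Tc_perp (hu.perp i j hj.symm) (hu.perpT j i hj), sub_self])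
    apply hQ.inj v0 hv0
    have h5 := LinearMap.congr_fun h3 v0
    have h6 := LinearMap.congr_fun h4 v0
    rw [LinearMap.sub_apply, LinearMap.sub_apply, LinearMap.smul_apply, LinearMap.smul_apply, Module.End.one_apply,
      LinearMap.zero_apply] at h5
    rw [LinearMap.sub_apply, LinearMap.smul_apply, LinearMap.zero_apply] at h6
    have h7 : T v0 + T v0 - c • v0 = (T v0 - (μ : K) • (T ^ n) v0) - (c • v0 - T v0 - (μ : K) • (T ^ n) v0) := by abel
    rw [h7, h5, h6, sub_self]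
  · simp only [hΨ]
    rw [← map_mul, ← map_mul]
    have h1 : ((g 0 * T₀ * (g 0)⁻¹) * (g 1 * T₀ * (g 1)⁻¹) * (g 2 * T₀ * (g 2)⁻¹) * T₀⁻¹ : semiSim 3 K).1 =
        scal 3 K (Units.mk0 l hl) := by
      ext1 v
      obtain ⟨v', rfl⟩ := T₀.1.surjective v
      have h2 : ((g 0 * T₀ * (g 0)⁻¹) * (g 1 * T₀ * (g 1)⁻¹) * (g 2 * T₀ * (g 2)⁻¹) * T₀⁻¹) * T₀ =
        (g 0 * T₀ * (g 0)⁻¹) * (g 1 * T₀ * (g 1)⁻¹) * (g 2 * T₀ * (g 2)⁻¹) := inv_mul_cancel_right _ _
      have h3 := DFunLike.congr_fun (congrArg Subtype.val h2) v'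
      have h4 : ((g 0 * T₀ * (g 0)⁻¹) * (g 1 * T₀ * (g 1)⁻¹) * (g 2 * T₀ * (g 2)⁻¹) * T₀⁻¹ : semiSim 3 K).1 (T₀.1 v') =
        (g 0 * T₀ * (g 0)⁻¹).1 ((g 1 * T₀ * (g 1)⁻¹).1 ((g 2 * T₀ * (g 2)⁻¹).1 v')) := h3
      rw [h4, hS, hS, hS, hQ.triple hu, scal_apply, Units.val_mk0]
      rfl
    have h2 := Psi_eq_one h1
    rw [map_mul, map_inv, mul_inv_eq_one] at h2
    rw [h2, hT₀]

/-! ### the group -/

section grp

variable {p a r k : ℕ} {R : Type} [Group R] [Finite R] (S : Subgroup R) [S.Normal]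

/-- conjugation on the socle, transported to `PSp` -/
noncomputable def kap (e : S ≃* PSp 3 K) : R →* MulAut (PSp 3 K) :=
  (MulAut.congr e).toMonoidHom.comp MulAut.conjNormal

omit [Finite R] in
theorem kap_apply (e : S ≃* PSp 3 K) (g : R) (s : S) : kap S e g (e s) = e (MulAut.conjNormal g s) := by
  change e (MulAut.conjNormal g (e.symm (e s))) = _
  rw [e.symm_apply_apply]

omit [Finite R] in
theorem kap_injective (hC : Subgroup.centralizer (S : Set R) = ⊥) (e : S ≃* PSp 3 K) : Function.Injective (kap S e) := by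
  rw [injective_iff_map_eq_one]
  intro g hg
  rw [← Subgroup.mem_bot, ← hC, Subgroup.mem_centralizer_iff]
  intro s hs
  have h1 := kap_apply S e g ⟨s, hs⟩
  rw [hg, MulAut.one_apply] at h1
  have h2 := congrArg Subtype.val (e.injective h1)
  rw [MulAut.conjNormal_apply] at h2
  exact (mul_inv_eq_iff_eq_mul.1 h2.symm).symm

omit [Finite R] in
theorem kap_coe (e : S ≃* PSp 3 K) (s : S) : kap S e (s : R) = MulAut.conj (e s) := by
  ext y
  obtain ⟨y, rfl⟩ := e.surjective y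
  rw [kap_apply, MulAut.conj_apply, ← map_mul, ← map_inv, ← map_mul]
  congr 1

/-- **O6, weak hypotheses, all `q ≥ 4`** -/
theorem sp6_conj_w [Fintype K] (hC : Subgroup.centralizer (S : Set R) = ⊥) {x t : R} (hx : orderOf x = r ^ k)
    (ht : orderOf t = mt (p ^ a)) (hxt : x * t = t * x) (hK : Fintype.card K = p ^ a) (h : RW p a r k) (e : S ≃* PSp 3 K) :
    ∃ t₁ t₂ t₃ : R, IsConj t t₁ ∧ IsConj t t₂ ∧ IsConj t t₃ ∧ t * t₁ = t₁ * t ∧ t * t₂ = t₂ * t ∧ t * t₃ = t₃ * t ∧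
      t₁ ∉ Subgroup.zpowers t ∧ t₂ ∉ Subgroup.zpowers t ∧ t₃ ∉ Subgroup.zpowers t ∧ t₁ * t₂ * t₃ = t := by
  have hinj := kap_injective S hC e
  obtain ⟨w, h1, h2, h3⟩ := core hK h (α := kap S e x) (β := kap S e t)
    (by rw [orderOf_injective _ hinj, hx]) (by rw [orderOf_injective _ hinj, ht]) (by rw [← map_mul, hxt, map_mul])
  have hk : ∀ i, kap S e (((e.symm (w i) : S) : R) * t * ((e.symm (w i) : S) : R)⁻¹) =
      MulAut.conj (w i) * kap S e t * (MulAut.conj (w i))⁻¹ := by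
    intro i
    rw [map_mul, map_mul, map_inv, kap_coe, e.apply_symm_apply]
  have hcomm : ∀ i, t * (((e.symm (w i) : S) : R) * t * ((e.symm (w i) : S) : R)⁻¹) =
      (((e.symm (w i) : S) : R) * t * ((e.symm (w i) : S) : R)⁻¹) * t := by
    intro i
    apply hinj
    rw [map_mul, map_mul (kap S e) _ t, hk, h1]
  have hnot : ∀ i, ((e.symm (w i) : S) : R) * t * ((e.symm (w i) : S) : R)⁻¹ ∉ Subgroup.zpowers t := by
    intro i hi
    rw [← mem_powers_iff_mem_zpowers] at hi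
    obtain ⟨n, hn⟩ := hi
    apply h2 i n
    rw [← hk, ← map_pow]
    exact congrArg _ hn.symm
  refine ⟨_, _, _, isConj_iff.2 ⟨((e.symm (w 0) : S) : R), rfl⟩, isConj_iff.2 ⟨((e.symm (w 1) : S) : R), rfl⟩,
    isConj_iff.2 ⟨((e.symm (w 2) : S) : R), rfl⟩, hcomm 0, hcomm 1, hcomm 2, hnot 0, hnot 1, hnot 2, ?_⟩
  apply hinj
  rw [map_mul, map_mul, hk, hk, hk, h3]

/-- **O6 = `sp6_conj`** -/
theorem sp6_conj [Fintype K] (hC : Subgroup.centralizer (S : Set R) = ⊥) {x t : R} (hx : orderOf x = r ^ k)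
    (ht : orderOf t = mt (p ^ a)) (hxt : x * t = t * x) (hK : Fintype.card K = p ^ a) (h : RK p a r k) (e : S ≃* PSp 3 K) :
    ∃ t₁ t₂ t₃ : R, IsConj t t₁ ∧ IsConj t t₂ ∧ IsConj t t₃ ∧ t * t₁ = t₁ * t ∧ t * t₂ = t₂ * t ∧ t * t₃ = t₃ * t ∧
      t₁ ∉ Subgroup.zpowers t ∧ t₂ ∉ Subgroup.zpowers t ∧ t₃ ∉ Subgroup.zpowers t ∧ t₁ * t₂ * t₃ = t :=
  sp6_conj_w S hC hx ht hxt hK h.weak e

end grp

end Cfsg.Agent.H466.O8S
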