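import Cfsg.Agent.H466.O8S.Model

/-!
# S3938-OPLUS8 (O2): the fields
-/

set_option autoImplicit false
set_option linter.unusedSectionVars false

namespace Cfsg.Agent.H466.O8S

open Module

variable {F : Type} [Field F] [Fintype F]

theorem frob_pow {K : Type} [Field K] [Algebra F K] [Finite K] (j : ℕ) (x : K) :
    (FiniteField.frobeniusAlgEquivOfAlgebraic F K ^ j) x = x ^ Fintype.card F ^ j := by
  induction j generalizing x with
  | zero => rw [pow_zero, pow_zero, pow_one]; rfl
  | succ j ih => rw [pow_succ, AlgEquiv.mul_apply, ih, FiniteField.coe_frobeniusAlgEquivOfAlgebraic, ← pow_mul,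
      pow_succ, mul_comm]

theorem exists_algebraMap {K : Type} [Field K] [Algebra F K] [Finite K] {x : K} (hx : x ^ Fintype.card F = x) :
    ∃ c : F, algebraMap F K c = x := by
  have h1 : x ∈ Set.range (algebraMap F K) := by
    rw [IsGalois.mem_range_algebraMap_iff_fixed]
    intro σ
    obtain ⟨i, hi⟩ := (FiniteField.bijective_frobeniusAlgEquivOfAlgebraic_pow F K).2 σ
    rw [← hi]
    simp only [frob_pow]
    generalize (i : ℕ) = j
    induction j with
    | zero => rw [pow_zero, pow_one]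
    | succ j ih => rw [pow_succ, pow_mul, ih, hx]
  exact h1

/-- elements of degree at least three -/
theorem three_le_degree {K : Type} [Field K] [Algebra F K] [Finite K] {x : Kˣ}
    (hx : orderOf x = Fintype.card F ^ 3 - 1) : 3 ≤ (minpoly F (x : K)).natDegree := by
  have hq : 2 ≤ Fintype.card F := Fintype.one_lt_card
  have hint : IsIntegral F (x : K) := Algebra.IsIntegral.isIntegral _
  have h3 : finrank F (IntermediateField.adjoin F {(x : K)}) = (minpoly F (x : K)).natDegree :=
    IntermediateField.adjoin.finrank hint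
  have h6 : Nat.card (IntermediateField.adjoin F {(x : K)}) = Fintype.card F ^ (minpoly F (x : K)).natDegree := by
    rw [Module.natCard_eq_pow_finrank (K := F), h3, Nat.card_eq_fintype_card]
  have h7 : (x : K) ^ (Fintype.card F ^ (minpoly F (x : K)).natDegree) = x := by
    have := Fintype.ofFinite (IntermediateField.adjoin F {(x : K)})
    have h8 := FiniteField.pow_card (⟨(x : K), IntermediateField.mem_adjoin_simple_self F (x : K)⟩ :
      IntermediateField.adjoin F {(x : K)})
    rw [← Nat.card_eq_fintype_card, h6] at h8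
    exact congrArg Subtype.val h8
  have hpos : 0 < (minpoly F (x : K)).natDegree := minpoly.natDegree_pos hint
  by_contra hlt
  set d := (minpoly F (x : K)).natDegree with hd
  have h1 : 1 ≤ Fintype.card F ^ d := Nat.one_le_pow _ _ (by omega)
  have h9 : x ^ (Fintype.card F ^ d - 1) = 1 := by
    have h10 : x ^ (Fintype.card F ^ d) = x := by
      apply Units.ext
      rw [Units.val_pow_eq_pow_val]
      exact h7
    have h11 : x ^ (Fintype.card F ^ d - 1) * x = 1 * x := by
      rw [← pow_succ, Nat.sub_add_cancel h1, h10, one_mul]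
    exact mul_right_cancel h11
  have h12 := orderOf_dvd_of_pow_eq_one h9
  rw [hx] at h12
  have h13 : Fintype.card F ^ 1 ≤ Fintype.card F ^ d := Nat.pow_le_pow_right (by omega) hpos
  have h14 : Fintype.card F ^ d ≤ Fintype.card F ^ 2 := Nat.pow_le_pow_right (by omega) (by omega)
  have h15 : Fintype.card F ^ 2 < Fintype.card F ^ 3 := Nat.pow_lt_pow_right (by omega) (by norm_num)
  rw [pow_one] at h13
  have h16 := Nat.le_of_dvd (by omega) h12
  omega

/-- the functional -/
theorem exists_phi {K : Type} [Field K] [Algebra F K] {x : K} (h : 3 ≤ (minpoly F x).natDegree) :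
    ∃ φ : K →ₗ[F] F, φ 1 ≠ 0 ∧ φ x = 0 ∧ φ (x * x) = 0 := by
  have h1 := linearIndependent_pow (K := F) x
  have h2 : (1 : K) ∉ Submodule.span F ({x, x * x} : Set K) := by
    intro h3
    obtain ⟨a, b, hab⟩ := Submodule.mem_span_pair.1 h3
    have h4 := h1.comp (fun i : Fin 3 => (⟨(i : ℕ), by omega⟩ : Fin (minpoly F x).natDegree)) (by
      intro i j hij
      exact Fin.ext (Fin.mk.inj_iff.1 hij))
    rw [Fintype.linearIndependent_iff] at h4
    have h5 := h4 ![-1, a, b] (by
      rw [Fin.sum_univ_three]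
      change (-1 : F) • x ^ 0 + a • x ^ 1 + b • x ^ 2 = 0
      rw [pow_zero, pow_one, pow_two, ← hab]
      module) 0
    exact one_ne_zero (neg_eq_zero.1 h5)
  obtain ⟨f, hf1, hf2⟩ := Submodule.exists_dual_map_eq_bot_of_notMem h2 inferInstance
  refine ⟨f, hf1, ?_, ?_⟩
  · have h3 : f x ∈ (Submodule.span F ({x, x * x} : Set K)).map f :=
      Submodule.mem_map_of_mem (Submodule.subset_span (by simp))
    rw [hf2] at h3
    exact (Submodule.mem_bot F).1 h3
  · have h3 : f (x * x) ∈ (Submodule.span F ({x, x * x} : Set K)).map f :=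
      Submodule.mem_map_of_mem (Submodule.subset_span (by simp))
    rw [hf2] at h3
    exact (Submodule.mem_bot F).1 h3

/-- the data: `ω` of order `q + 1`, `μ` of order `N`, `N ∣ q³ + 1` -/
theorem exists_dat {p a N : ℕ} (hp : p.Prime) (hF : Fintype.card F = p ^ a) (hN : N ∣ Fintype.card F ^ 3 + 1) :
    ∃ (K : Type) (_ : Field K) (_ : Algebra F K) (_ : FiniteDimensional F K) (σ : K →ₐ[F] K) (φ : K →ₗ[F] F)
      (ω μ : Kˣ) (α : K) (c : F), finrank F K = 6 ∧ Dat σ φ (ω : K) α c ∧ orderOf ω = Fintype.card F + 1 ∧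
        orderOf μ = N ∧ (μ : K) * σ μ = 1 := by
  have hpp := Fact.mk hp
  have hq : 2 ≤ Fintype.card F := Fintype.one_lt_card
  have hch : CharP F p := charP_of_card_eq_prime_pow (f := a) hF
  let K := FiniteField.Extension F p 6
  have hK : finrank F K = 6 := FiniteField.finrank_extension F p 6
  have hKc : Nat.card K = Fintype.card F ^ 6 := by
    rw [← Nat.card_eq_fintype_card]
    exact FiniteField.natCard_extension F p 6
  have hKfin : Finite K := inferInstance
  obtain ⟨θ, hθ⟩ : ∃ θ : Kˣ, orderOf θ = Fintype.card F ^ 6 - 1 := by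
    obtain ⟨θ, hθ⟩ := IsCyclic.exists_generator (α := Kˣ)
    refine ⟨θ, ?_⟩
    rw [orderOf_eq_card_of_forall_mem_zpowers hθ, Nat.card_units, hKc]
  set q := Fintype.card F with hqdef
  have hq6 : q ^ 6 - 1 = (q ^ 3 + 1) * (q ^ 3 - 1) := by
    have h1 : q ^ 6 = (q ^ 3) ^ 2 := by ring
    rw [h1, ← Nat.sq_sub_sq, one_pow]
  have h30 : 2 ^ 3 ≤ q ^ 3 := Nat.pow_le_pow_left hq 3
  have hpos : q ^ 6 - 1 ≠ 0 := by
    rw [hq6]
    exact mul_ne_zero (by omega) (by omega)
  have hd1 : q + 1 ∣ q ^ 3 + 1 := by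
    have := Odd.nat_add_dvd_pow_add_pow q 1 (n := 3) (by decide)
    rwa [one_pow] at this
  -- elements of given order
  have hel : ∀ d : ℕ, d ∣ q ^ 3 + 1 → ∃ u : Kˣ, orderOf u = d ∧ u ^ (q ^ 3 + 1) = 1 := by
    intro d hd
    refine ⟨θ ^ (orderOf θ / d), orderOf_pow_orderOf_div (by rw [hθ]; exact hpos) (by
      rw [hθ, hq6]; exact hd.mul_right _), ?_⟩
    have h1 : orderOf (θ ^ (orderOf θ / d)) = d := orderOf_pow_orderOf_div (by rw [hθ]; exact hpos) (by
      rw [hθ, hq6]; exact hd.mul_right _)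
    exact orderOf_dvd_iff_pow_eq_one.1 (by rw [h1]; exact hd)
  obtain ⟨ω, hω, hω1⟩ := hel (q + 1) hd1
  obtain ⟨μ, hμ, hμ1⟩ := hel N hN
  set σ : K →ₐ[F] K := ((FiniteField.frobeniusAlgEquivOfAlgebraic F K ^ 3 : K ≃ₐ[F] K) : K →ₐ[F] K) with hσdef
  have hσ : ∀ z : K, σ z = z ^ q ^ 3 := fun z => frob_pow 3 z
  have hunit : ∀ u : Kˣ, u ^ (q ^ 3 + 1) = 1 → (u : K) * σ u = 1 := by
    intro u hu
    rw [hσ, ← pow_succ', ← Units.val_pow_eq_pow_val, hu, Units.val_one]
  set α : Kˣ := θ ^ (q ^ 3 + 1) with hα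
  have hα1 : orderOf α = q ^ 3 - 1 := by
    have h1 : q ^ 3 + 1 = orderOf θ / (q ^ 3 - 1) := by
      rw [hθ, hq6, Nat.mul_div_cancel _ (by omega)]
    rw [hα, h1]
    exact orderOf_pow_orderOf_div (by rw [hθ]; exact hpos) (by rw [hθ, hq6]; exact dvd_mul_left _ _)
  obtain ⟨φ, hφ1, hφ2, hφ3⟩ := exists_phi (three_le_degree (F := F) hα1)
  -- `ω ^ q = ω⁻¹`
  have hωq : (ω : K) ^ q * ω = 1 := by
    have h1 : ω ^ (q + 1) = 1 := by rw [← hω, pow_orderOf_eq_one]
    rw [← pow_succ, ← Units.val_pow_eq_pow_val, h1, Units.val_one]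
  have hσω : σ (ω : K) = (ω : K) ^ q := by
    have h1 := hunit ω hω1
    have h2 : (ω : K) ≠ 0 := ω.ne_zero
    apply mul_left_cancel₀ h2
    rw [h1, mul_comm, hωq]
  obtain ⟨c, hc⟩ := exists_algebraMap (F := F) (x := (ω : K) + σ ω) (by
    have h1 : ∀ z w : K, (z + w) ^ q = z ^ q + w ^ q := fun z w => by
      have h2 := map_add (FiniteField.frobeniusAlgEquivOfAlgebraic F K) z w
      rwa [FiniteField.coe_frobeniusAlgEquivOfAlgebraic] at h2
    rw [← hqdef, h1, hσω]
    have h3 : ((ω : K) ^ q) ^ q = ω := by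
      have h4 : ((ω : K) ^ q * ω) ^ q = 1 := by rw [hωq, one_pow]
      rw [mul_pow] at h4
      have h5 : (ω : K) ^ q ≠ 0 := pow_ne_zero _ ω.ne_zero
      apply mul_right_cancel₀ h5
      rw [h4, mul_comm, hωq]
    rw [h3, add_comm])
  have hnm : ∀ z : F, algebraMap F K z ≠ ω := by
    intro z hz
    have h1 : (ω : K) ^ q = ω := by
      rw [← hz, ← map_pow, hqdef, FiniteField.pow_card]
    have h2 : ω ^ 2 = 1 := by
      apply Units.ext
      rw [Units.val_pow_eq_pow_val, Units.val_one, pow_two]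
      rw [h1] at hωq
      exact hωq
    have h3 := orderOf_dvd_of_pow_eq_one h2
    rw [hω] at h3
    have := Nat.le_of_dvd (by norm_num) h3
    omega
  refine ⟨K, inferInstance, inferInstance, inferInstance, σ, φ, ω, μ, α, c, hK, ?_, hω, hμ, hunit μ hμ1⟩
  refine ⟨?_, ?_, hunit ω hω1, hc, hnm, ?_, α.ne_zero, hφ1, hφ2, hφ3⟩
  · intro z
    rw [hσ, hσ, ← pow_mul]
    have := Fintype.ofFinite K
    have h1 : q ^ 3 * q ^ 3 = Fintype.card K := by
      rw [← Nat.card_eq_fintype_card, hKc]
      ring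
    rw [h1, FiniteField.pow_card]
  · by_contra hcon
    push Not at hcon
    have h1 := hcon 1
    rw [map_one] at h1
    have h2 := hcon (ω : K)
    have h3 : (ω : K) * ω = -1 := by
      have h4 := hunit ω hω1
      have h5 : σ (ω : K) = -ω := by linear_combination h2
      rw [h5] at h4
      linear_combination -h4
    have h4 : ω ^ 2 = 1 := by
      apply Units.ext
      rw [Units.val_pow_eq_pow_val, Units.val_one, pow_two, h3]
      linear_combination -h1
    have h5 := orderOf_dvd_of_pow_eq_one h4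
    rw [hω] at h5
    have := Nat.le_of_dvd (by norm_num) h5
    omega
  · rw [hσ, hα, ← Units.val_pow_eq_pow_val]
    congr 1
    rw [← pow_mul]
    have h1 : (q ^ 3 + 1) * q ^ 3 = orderOf θ + (q ^ 3 + 1) := by
      rw [hθ, hq6]
      obtain ⟨m, hm⟩ : ∃ m, q ^ 3 = m + 1 := ⟨q ^ 3 - 1, by omega⟩
      rw [hm]
      simp only [Nat.add_sub_cancel]
      ring
    rw [h1, pow_add, pow_orderOf_eq_one, one_mul]

end Cfsg.Agent.H466.O8S
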