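import Cfsg.Agent.H955.QClass

/-!
# S3938-OPLUS8 (O2): the model `K ⊕ F²` of the space of plus type of dimension eight

`K / F` of degree six, `σ` the involution, `ω σ(ω) = 1`, `c = ω + σ(ω)`; `Q'(v, a) = φ(v σ(v)) - φ(1) (a₁² + a₂² + c a₁ a₂)`.
-/

set_option autoImplicit false
set_option linter.unusedSectionVars false

namespace Cfsg.Agent.H466.O8S

open Module QuadraticMap Cfsg.Agent.LieClassical.OrthCore Cfsg.Agent.H955

section Model

variable {F K : Type} [Field F] [Field K] [Algebra F K]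

/-- the embedding of `F²` -/
def eta (ω : K) : F × F →ₗ[F] K where
  toFun a := algebraMap F K a.1 + algebraMap F K a.2 * ω
  map_add' a b := by
    rw [Prod.fst_add, Prod.snd_add, map_add, map_add]
    ring
  map_smul' r a := by
    rw [Prod.smul_fst, Prod.smul_snd, smul_eq_mul, smul_eq_mul, map_mul, map_mul, RingHom.id_apply,
      Algebra.smul_def]
    ring

theorem eta_apply (ω : K) (a : F × F) : eta ω a = algebraMap F K a.1 + algebraMap F K a.2 * ω := rfl

/-- the norm form -/
def nn (c : F) (a : F × F) : F := a.1 * a.1 + a.2 * a.2 + c * (a.1 * a.2)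

/-- multiplication by `ω` -/
def rot (c : F) : (F × F) ≃ₗ[F] (F × F) where
  toFun a := (-a.2, a.1 + c * a.2)
  invFun a := (c * a.1 + a.2, -a.1)
  map_add' a b := by
    refine Prod.ext ?_ ?_
    · simp only [Prod.fst_add, Prod.snd_add]
      ring
    · simp only [Prod.fst_add, Prod.snd_add]
      ring
  map_smul' r a := by
    refine Prod.ext ?_ ?_
    · simp only [Prod.smul_fst, Prod.smul_snd, smul_eq_mul, RingHom.id_apply]
      ring
    · simp only [Prod.smul_fst, Prod.smul_snd, smul_eq_mul, RingHom.id_apply]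
      ring
  left_inv a := by
    refine Prod.ext ?_ ?_
    · simp only
      ring
    · simp only
      ring
  right_inv a := by
    refine Prod.ext ?_ ?_
    · simp only
      ring
    · simp only
      ring

theorem rot_apply (c : F) (a : F × F) : rot c a = (-a.2, a.1 + c * a.2) := rfl

theorem rot_symm_apply (c : F) (a : F × F) : (rot c).symm a = (c * a.1 + a.2, -a.1) := rfl

theorem nn_rot (c : F) (a : F × F) : nn c (rot c a) = nn c a := by
  rw [nn, nn, rot_apply]
  ring

theorem nn_rot_symm (c : F) (a : F × F) : nn c ((rot c).symm a) = nn c a := by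
  rw [← nn_rot c ((rot c).symm a), LinearEquiv.apply_symm_apply]

/-- the data -/
structure Dat (σ : K →ₐ[F] K) (φ : K →ₗ[F] F) (ω α : K) (c : F) : Prop where
  inv : ∀ z, σ (σ z) = z
  ne : ∃ z, z + σ z ≠ 0
  om : ω * σ ω = 1
  tr : algebraMap F K c = ω + σ ω
  nmem : ∀ z : F, algebraMap F K z ≠ ω
  al : σ α = α
  al0 : α ≠ 0
  phi0 : φ 1 ≠ 0
  phi1 : φ α = 0
  phi2 : φ (α * α) = 0

variable {σ : K →ₐ[F] K} {φ : K →ₗ[F] F} {ω α : K} {c : F}

theorem Dat.sq (D : Dat σ φ ω α c) : ω * ω = algebraMap F K c * ω - 1 := by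
  rw [D.tr]
  linear_combination -D.om

theorem Dat.eta_rot (D : Dat σ φ ω α c) (a : F × F) : eta ω (rot c a) = ω * eta ω a := by
  rw [eta_apply, eta_apply, rot_apply, map_neg, map_add, map_mul]
  linear_combination (-(algebraMap F K a.2)) * D.sq

theorem Dat.eta_inj (D : Dat σ φ ω α c) : Function.Injective (eta ω : F × F →ₗ[F] K) := by
  rw [← LinearMap.ker_eq_bot, LinearMap.ker_eq_bot']
  intro a ha
  rw [eta_apply] at ha
  by_cases h2 : a.2 = 0
  · rw [h2, map_zero, zero_mul, add_zero, map_eq_zero] at ha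
    exact Prod.ext ha h2
  · exfalso
    refine D.nmem (-(a.1 / a.2)) ?_
    have h3 : algebraMap F K a.2 ≠ 0 := (map_ne_zero _).2 h2
    rw [map_neg, map_div₀]
    field_simp
    linear_combination -ha

theorem Dat.sig_eta (_ : Dat σ φ ω α c) (a : F × F) :
    σ (eta ω a) = algebraMap F K a.1 + algebraMap F K a.2 * σ ω := by
  rw [eta_apply, map_add, map_mul, AlgHom.commutes, AlgHom.commutes]

theorem Dat.eta_mul (D : Dat σ φ ω α c) (a : F × F) : eta ω a * σ (eta ω a) = algebraMap F K (nn c a) := by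
  rw [D.sig_eta, eta_apply, nn, map_add, map_add, map_mul, map_mul, map_mul, map_mul, D.tr]
  linear_combination (algebraMap F K a.2) ^ 2 * D.om

/-- the mixed term -/
theorem Dat.eta_mix (D : Dat σ φ ω α c) (a b : F × F) : ∃ m : F,
    eta ω a * σ (eta ω b) + eta ω b * σ (eta ω a) = algebraMap F K m := by
  refine ⟨2 * (a.1 * b.1) + 2 * (a.2 * b.2) + c * (a.1 * b.2 + a.2 * b.1), ?_⟩
  rw [D.sig_eta, D.sig_eta, eta_apply, eta_apply]
  simp only [map_add, map_mul, D.tr, map_ofNat]
  linear_combination (2 * (algebraMap F K a.2) * (algebraMap F K b.2)) * D.om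

/-- the form on `K` -/
def QK (σ : K →ₐ[F] K) (φ : K →ₗ[F] F) : QuadraticForm F K :=
  LinearMap.BilinMap.toQuadraticMap (LinearMap.mk₂ F (fun v w => φ (v * σ w))
    (fun a b v => by rw [add_mul, map_add]) (fun r a b => by rw [smul_mul_assoc, map_smul])
    (fun a b v => by rw [map_add, mul_add, map_add]) (fun r a b => by rw [map_smul, mul_smul_comm, map_smul]))

theorem QK_apply (v : K) : QK σ φ v = φ (v * σ v) := rfl

theorem polar_QK (v w : K) : polar (QK σ φ) v w = φ (v * σ w + w * σ v) := by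
  rw [polar, QK_apply, QK_apply, QK_apply, ← map_sub, ← map_sub, map_add]
  congr 1
  ring

/-- the form on `F²` -/
def QE (c e : F) : QuadraticForm F (F × F) :=
  LinearMap.BilinMap.toQuadraticMap (LinearMap.mk₂ F (fun v w => e * (v.1 * w.1 + v.2 * w.2 + c * (v.1 * w.2)))
    (fun a b v => by simp only [Prod.fst_add, Prod.snd_add]; ring)
    (fun r a b => by simp only [Prod.smul_fst, Prod.smul_snd, smul_eq_mul]; ring)
    (fun a b v => by simp only [Prod.fst_add, Prod.snd_add]; ring)
    (fun r a b => by simp only [Prod.smul_fst, Prod.smul_snd, smul_eq_mul]; ring))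

theorem QE_apply (c e : F) (a : F × F) : QE c e a = e * nn c a := rfl

theorem polar_QE (c e : F) (a b : F × F) :
    polar (QE c e) a b = e * (2 * (a.1 * b.1) + 2 * (a.2 * b.2) + c * (a.1 * b.2 + a.2 * b.1)) := by
  rw [polar, QE_apply, QE_apply, QE_apply, nn, nn, nn, Prod.fst_add, Prod.snd_add]
  ring

theorem Dat.nondeg_QK (D : Dat σ φ ω α c) : Nondeg (QK σ φ) := by
  intro v hv
  by_contra hv0
  obtain ⟨z, hz⟩ := D.ne
  have hσv : σ v ≠ 0 := fun h => hv0 (by rw [← D.inv v, h, map_zero])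
  have h1 := hv (σ (z / (z + σ z)) / σ v)
  rw [polar_QK, map_div₀, D.inv, D.inv] at h1
  have h2 : v * (z / (z + σ z) / v) + σ (z / (z + σ z)) / σ v * σ v = 1 := by
    rw [map_div₀, map_add, D.inv]
    have h3 : σ z + z ≠ 0 := by rwa [add_comm]
    field_simp
    ring
  rw [h2] at h1
  exact D.phi0 h1

theorem Dat.disc (D : Dat σ φ ω α c) : c * c - 4 ≠ 0 := by
  intro h
  have h1 := congrArg (algebraMap F K) h
  rw [map_sub, map_mul, D.tr, map_ofNat, map_zero] at h1
  have h2 : (ω - σ ω) * (ω - σ ω) = 0 := by linear_combination h1 - 4 * D.om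
  have h3 : ω = σ ω := by
    rcases mul_eq_zero.1 h2 with h3 | h3 <;> exact sub_eq_zero.1 h3
  have h4 := D.om
  rw [← h3] at h4
  rcases mul_self_eq_one_iff.1 h4 with h5 | h5
  · exact D.nmem 1 (by rw [map_one, h5])
  · exact D.nmem (-1) (by rw [map_neg, map_one, h5])

theorem Dat.nondeg_QE (D : Dat σ φ ω α c) {e : F} (he : e ≠ 0) : Nondeg (QE c e) := by
  intro a ha
  have h1 := ha (1, 0)
  have h2 := ha (0, 1)
  rw [polar_QE] at h1 h2
  have h3 := (mul_eq_zero.1 h1).resolve_left he
  have h4 := (mul_eq_zero.1 h2).resolve_left he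
  simp only at h3 h4
  refine Prod.ext ?_ ?_
  · have h5 : (c * c - 4) * a.1 = 0 := by linear_combination c * h4 - 2 * h3
    exact (mul_eq_zero.1 h5).resolve_left D.disc
  · have h5 : (c * c - 4) * a.2 = 0 := by linear_combination c * h3 - 2 * h4
    exact (mul_eq_zero.1 h5).resolve_left D.disc

/-- the form on `K ⊕ F²` -/
abbrev QV (σ : K →ₐ[F] K) (φ : K →ₗ[F] F) (c : F) : QuadraticForm F (K × (F × F)) :=
  osum (QK σ φ) (QE c (-φ 1))

theorem QV_apply (v : K × (F × F)) : QV σ φ c v = φ (v.1 * σ v.1) - φ 1 * nn c v.2 := by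
  rw [QV, osum_apply, QK_apply, QE_apply]
  ring

theorem Dat.nondeg (D : Dat σ φ ω α c) : Nondeg (QV σ φ c) :=
  nondeg_osum D.nondeg_QK (D.nondeg_QE (neg_ne_zero.2 D.phi0))

/-- the singular subspace -/
def sing (ω α : K) : ((F × F) × (F × F)) →ₗ[F] (K × (F × F)) where
  toFun x := (eta ω x.1 * α + eta ω x.2, x.2)
  map_add' x y := by
    refine Prod.ext ?_ rfl
    simp only [Prod.fst_add, Prod.snd_add, map_add]
    ring
  map_smul' r x := by
    refine Prod.ext ?_ rfl
    simp only [Prod.smul_fst, Prod.smul_snd, map_smul, RingHom.id_apply, smul_add, smul_mul_assoc]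

theorem Dat.isPlus (D : Dat σ φ ω α c) (h6 : finrank F K = 6) [FiniteDimensional F K] : IsPlus (QV σ φ c) := by
  refine ⟨LinearMap.range (sing ω α), ?_, ?_⟩
  · rintro _ ⟨x, rfl⟩
    change QV σ φ c (eta ω x.1 * α + eta ω x.2, x.2) = 0
    rw [QV_apply]
    simp only
    obtain ⟨m, hm⟩ := D.eta_mix x.1 x.2
    have h1 : (eta ω x.1 * α + eta ω x.2) * σ (eta ω x.1 * α + eta ω x.2) =
        (nn c x.1) • (α * α) + m • α + (nn c x.2) • (1 : K) := by
      rw [map_add, map_mul, D.al, Algebra.smul_def, Algebra.smul_def, Algebra.smul_def, ← D.eta_mul,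
        ← D.eta_mul, ← hm]
      ring
    rw [h1, map_add, map_add, map_smul, map_smul, map_smul, D.phi1, D.phi2, smul_zero, smul_zero,
      zero_add, zero_add, smul_eq_mul]
    ring
  · have hinj : Function.Injective (sing ω α : ((F × F) × (F × F)) →ₗ[F] (K × (F × F))) := by
      rw [← LinearMap.ker_eq_bot, LinearMap.ker_eq_bot']
      intro x hx
      have h2 : x.2 = 0 := congrArg Prod.snd hx
      have h1 : eta ω x.1 * α + eta ω x.2 = 0 := congrArg Prod.fst hx
      rw [h2, map_zero, add_zero] at h1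
      have h3 := (mul_eq_zero.1 h1).resolve_right D.al0
      exact Prod.ext (D.eta_inj (h3.trans (map_zero _).symm)) h2
    have h2 : finrank F (F × F) = 2 := by rw [Module.finrank_prod, Module.finrank_self]
    have h3 : finrank F ((F × F) × (F × F)) = 4 := by rw [Module.finrank_prod, h2]
    have h4 : finrank F (K × (F × F)) = 8 := by rw [Module.finrank_prod, h2, h6]
    rw [LinearMap.finrank_range_of_inj hinj, h3, h4]

end Model

end Cfsg.Agent.H466.O8S
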