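import Cfsg.Agent.H823.O8S.Base
import Cfsg.Agent.ClassicalGeometry.SympGamma

/-!
# S3938-OPLUS8: an element of order `r ^ k` acts irreducibly on `K ^ 6` over the prime field (helper466)
-/

set_option autoImplicit false

namespace Cfsg.Agent.H466.O8S

open Module
open Cfsg.Agent.H436 (Prim)

section irr

variable {V : Type*} [AddCommGroup V] [Finite V]

/-- an additive subgroup of a group of order `p ^ n` has order `p ^ m`, `m ≤ n` -/
theorem card_addSub {p n : ℕ} (hp : p.Prime) (hV : Nat.card V = p ^ n) (W : AddSubgroup V) :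
    ∃ m, m ≤ n ∧ Nat.card W = p ^ m := by
  have h := W.card_addSubgroup_dvd_card
  rw [hV] at h
  exact (Nat.dvd_prime_pow hp).1 h

/-- **irreducibility** -/
theorem irr_add {p n r k : ℕ} (hp : p.Prime) (hn : 0 < n) (hr : Prim p n r) (hV : Nat.card V = p ^ n)
    {X : V →+ V} (hX : ∀ v, (X^[r ^ k]) v = v) (hX1 : ∃ v, X v ≠ v) {W : AddSubgroup V} (hW : ∀ v ∈ W, X v ∈ W) :
    W = ⊥ ∨ W = ⊤ := by
  classical
  have := Fintype.ofFinite V
  have : Fact r.Prime := ⟨hr.prime⟩
  have key : ∀ U : AddSubgroup V, (∀ v ∈ U, X v ∈ U) →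
      ∀ C : AddSubgroup V, (∀ v, v ∈ C ↔ v ∈ U ∧ X v = v) → Nat.card U ≡ Nat.card C [MOD r] := by
    intro U hU C hC
    let f : Function.End U := fun v => ⟨X v, hU v v.2⟩
    have hit : ∀ (j : ℕ) (v : U), (((f ^ j) v : U) : V) = (X^[j]) v := by
      intro j
      induction j with
      | zero => intro v; rfl
      | succ j ih =>
        intro v
        rw [pow_succ', Function.iterate_succ_apply']
        change X ((f ^ j) v : U) = _
        rw [ih]
    have hf : f ^ r ^ k = 1 := by
      funext v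
      apply Subtype.ext
      rw [hit, hX]
      rfl
    have h1 := Equiv.Perm.card_fixedPoints_modEq hf
    rw [← Nat.card_eq_fintype_card, ← Nat.card_eq_fintype_card] at h1
    have h2 : Nat.card (Function.fixedPoints f) = Nat.card C := by
      refine Nat.card_congr ⟨fun v => ⟨v.1.1, (hC _).2 ⟨v.1.2, congrArg Subtype.val v.2⟩⟩,
        fun v => ⟨⟨v.1, ((hC _).1 v.2).1⟩, Subtype.ext ((hC _).1 v.2).2⟩, fun v => rfl, fun v => rfl⟩
    rwa [h2] at h1
  -- no fixed points
  let C : AddSubgroup V :=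
    { carrier := {v | X v = v}
      zero_mem' := map_zero X
      add_mem' := fun {a b} ha hb => by
        rw [Set.mem_setOf_eq] at ha hb ⊢
        rw [map_add, ha, hb]
      neg_mem' := fun {a} ha => by
        rw [Set.mem_setOf_eq] at ha ⊢
        rw [map_neg, ha] }
  have hCmem : ∀ v, v ∈ C ↔ X v = v := fun v => Iff.rfl
  have hCtop : C ≠ ⊤ := by
    intro h
    obtain ⟨v, hv⟩ := hX1
    exact hv ((hCmem v).1 (h ▸ AddSubgroup.mem_top v))
  have hC : C = ⊥ := by
    obtain ⟨m, hm, hm'⟩ := card_addSub hp hV C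
    have h1 := key ⊤ (fun v _ => AddSubgroup.mem_top _) C (fun v => by
      rw [hCmem]
      exact ⟨fun h => ⟨AddSubgroup.mem_top _, h⟩, fun h => h.2⟩)
    rw [AddSubgroup.card_top, hV, hm'] at h1
    have h2 : p ^ m ≤ p ^ n := Nat.pow_le_pow_right hp.pos hm
    have h3 := (Nat.modEq_iff_dvd' h2).1 h1.symm
    have h4 : p ^ n - p ^ m = p ^ m * (p ^ (n - m) - 1) := by
      rw [Nat.mul_sub, mul_one, ← pow_add, Nat.add_sub_cancel' hm]
    rw [h4] at h3
    have h5 := (hr.prime.dvd_mul.1 h3).resolve_left (hr.not_dvd_pow m)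
    have h6 := (hr.dvd_iff _).1 h5
    have h7 : n - m = 0 ∨ n - m = n := by
      rcases Nat.eq_zero_or_pos (n - m) with h | h
      · exact Or.inl h
      · exact Or.inr (le_antisymm (Nat.sub_le _ _) (Nat.le_of_dvd h h6))
    rcases h7 with h7 | h7
    · exfalso
      apply hCtop
      apply AddSubgroup.eq_top_of_card_eq
      rw [hm', hV, show m = n by omega]
    · rw [← AddSubgroup.card_eq_one, hm', show m = 0 by omega, pow_zero]
  obtain ⟨m, hm, hm'⟩ := card_addSub hp hV W
  have h1 := key W hW ⊥ (fun v => by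
    rw [AddSubgroup.mem_bot]
    constructor
    · rintro rfl
      exact ⟨W.zero_mem, map_zero X⟩
    · rintro ⟨-, h⟩
      rw [← hCmem, hC, AddSubgroup.mem_bot] at h
      exact h)
  rw [AddSubgroup.card_bot, hm'] at h1
  have h3 := (Nat.modEq_iff_dvd' (Nat.one_le_pow m p hp.pos)).1 h1.symm
  have h6 := (hr.dvd_iff _).1 h3
  rcases Nat.eq_zero_or_pos m with h | h
  · left
    rw [← AddSubgroup.card_eq_one, hm', h, pow_zero]
  · right
    apply AddSubgroup.eq_top_of_card_eq
    rw [hm', hV, le_antisymm hm (Nat.le_of_dvd h h6)]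

/-- an additive map commuting with `X` is zero or injective -/
theorem eq_zero_of_apply {X : V →+ V} (hI : ∀ W : AddSubgroup V, (∀ v ∈ W, X v ∈ W) → W = ⊥ ∨ W = ⊤) {f : V →+ V}
    (hf : ∀ v, f (X v) = X (f v)) {v : V} (hv : v ≠ 0) (h : f v = 0) : f = 0 := by
  rcases hI f.ker (fun w hw => by rw [AddMonoidHom.mem_ker] at hw ⊢; rw [hf, hw, map_zero]) with h1 | h1
  · exfalso
    apply hv
    rw [← AddSubgroup.mem_bot, ← h1]
    exact h
  · ext w
    have : w ∈ f.ker := by rw [h1]; exact AddSubgroup.mem_top w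
    exact this

/-- **Schur, Wedderburn**: the additive maps which commute with `X` commute -/
theorem comm_of_comm [Nontrivial V] {X : V →+ V} (hI : ∀ W : AddSubgroup V, (∀ v ∈ W, X v ∈ W) → W = ⊥ ∨ W = ⊤)
    {f g : V →+ V} (hf : ∀ v, f (X v) = X (f v)) (hg : ∀ v, g (X v) = X (g v)) (v : V) : f (g v) = g (f v) := by
  let D : Subring (AddMonoid.End V) := Subring.centralizer {(X : AddMonoid.End V)}
  have hD : ∀ f : AddMonoid.End V, f ∈ D ↔ ∀ v, f (X v) = X (f v) := by
    intro f
    rw [Subring.mem_centralizer_iff]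
    constructor
    · intro h v
      exact (DFunLike.congr_fun (h X rfl) v).symm
    · rintro h _ rfl
      ext v
      exact (h v).symm
  have : Finite (AddMonoid.End V) := DFunLike.finite (AddMonoid.End V)
  have : Finite D := Subtype.finite
  have hnt : Nontrivial D := ⟨0, 1, fun h => by
    obtain ⟨v, hv⟩ := exists_ne (0 : V)
    have h1 : (0 : AddMonoid.End V) = 1 := congrArg Subtype.val h
    exact hv (DFunLike.congr_fun h1 v).symm⟩
  have hnz : NoZeroDivisors D := ⟨by
    rintro ⟨a, ha⟩ ⟨b, hb⟩ hab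
    have hab' : a * b = 0 := congrArg Subtype.val hab
    by_cases hb0 : b = 0
    · exact Or.inr (Subtype.ext hb0)
    left
    apply Subtype.ext
    obtain ⟨v, hv⟩ : ∃ v, b v ≠ 0 := by
      by_contra hcon
      push Not at hcon
      exact hb0 (AddMonoidHom.ext hcon)
    exact eq_zero_of_apply hI ((hD a).1 ha) hv (DFunLike.congr_fun hab' v)⟩
  have hdom : IsDomain D := NoZeroDivisors.to_isDomain D
  have hfield := Finite.isDomain_to_isField D
  have h := hfield.mul_comm ⟨f, (hD f).2 hf⟩ ⟨g, (hD g).2 hg⟩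
  exact DFunLike.congr_fun (congrArg Subtype.val h) v

end irr

end Cfsg.Agent.H466.O8S
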