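import Cfsg.Agent.H466.O8S.Schur

/-!
# S3938-OPLUS8: similitudes of `K ^ 6` generating `F_{q²}` (helper466)
-/

set_option autoImplicit false

namespace Cfsg.Agent.H466.O8S

open Module
open Cfsg.Agent.ClassicalGeometry.SympBasic

variable {K : Type} [Field K]

local notation "V6" => (Fin 3 ⊕ Fin 3 → K)

local notation "B" => sympForm 3 K

/-- `T` generates a quadratic extension and its adjoint is `c - T` -/
structure QT (T : Module.End K V6) (c l : K) : Prop where
  sq : ∀ v, T (T v) = c • T v - l • v
  adj : ∀ u v, B (T u) v = c * B u v - B u (T v)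
  inj : ∀ v, v ≠ 0 → T v + T v - c • v ≠ 0

section quad

variable [Fintype K]

/-- an element `z` of a ring of endomorphisms with `z ^ q = z` and without zero divisors is a scalar -/
theorem scalar_of_pow {z : Module.End K V6} (hI : ∀ a : K, (∃ v, v ≠ 0 ∧ z v = a • v) → z = a • (1 : Module.End K V6))
    (hz : z ^ Fintype.card K = z) : ∃ a : K, z = a • (1 : Module.End K V6) := by
  classical
  by_contra hcon
  push Not at hcon
  have hinj : ∀ a : K, Function.Injective (z - a • (1 : Module.End K V6)) := by
    intro a
    rw [injective_iff_map_eq_zero]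
    intro v hv
    by_contra hv0
    refine hcon a (hI a ⟨v, hv0, ?_⟩)
    rw [LinearMap.sub_apply, LinearMap.smul_apply, Module.End.one_apply] at hv
    exact sub_eq_zero.1 hv
  have hprod : ∀ s : Finset K, Function.Injective (Polynomial.aeval z (∏ a ∈ s, (Polynomial.X - Polynomial.C a))) := by
    intro s
    induction s using Finset.induction_on with
    | empty =>
      rw [Finset.prod_empty, map_one]
      exact Function.injective_id
    | insert a s ha ih =>
      rw [Finset.prod_insert ha, map_mul, map_sub, Polynomial.aeval_X, Polynomial.aeval_C, Module.End.mul_eq_comp,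
        LinearMap.coe_comp]
      refine Function.Injective.comp ?_ ih
      have := hinj a
      rwa [← Algebra.algebraMap_eq_smul_one] at this
  have h1 := hprod Finset.univ
  have h2 : (∏ a ∈ (Finset.univ : Finset K), (Polynomial.X - Polynomial.C a)) =
      Polynomial.X ^ Fintype.card K - Polynomial.X := by
    have e1 := FiniteField.roots_X_pow_card_sub_X K
    have e2 : (Polynomial.X ^ Fintype.card K - Polynomial.X : Polynomial K).natDegree = Fintype.card K :=
      FiniteField.X_pow_card_sub_X_natDegree_eq K Fintype.one_lt_card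
    have e3 : (Polynomial.X ^ Fintype.card K - Polynomial.X : Polynomial K).Monic :=
      Polynomial.monic_X_pow_sub (by rw [Polynomial.degree_X]; exact_mod_cast Fintype.one_lt_card)
    have e4 := Polynomial.prod_multiset_X_sub_C_of_monic_of_roots_card_eq e3 (by
      rw [e1, e2]
      exact Finset.card_univ)
    rw [e1] at e4
    exact e4
  rw [h2, map_sub, map_pow, Polynomial.aeval_X, hz, sub_self] at h1
  have h3 : (Pi.single (Sum.inl 0) 1 : V6) ≠ 0 := by
    intro h
    have := congrFun h (Sum.inl 0)
    simp at this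
  exact h3 (h1 (by simp))

/-- **`T` generates a quadratic field extension** -/
theorem quad {p a : ℕ} (hp : p.Prime) (hK : Fintype.card K = p ^ a) {X : V6 →+ V6} (hXs : ∀ (a : K) v, X (a • v) = a • X v)
    (hI : ∀ f : Module.End K V6, (∀ v, f (X v) = X (f v)) → ∀ v, v ≠ 0 → f v = 0 → f = 0) {T : Module.End K V6}
    (hTX : ∀ v, T (X v) = X (T v)) {l : K} (hl : l ≠ 0) (hB : ∀ u v, B (T u) (T v) = l * B u v)
    (hT0 : ∃ d : K, T ^ (Fintype.card K + 1) = d • (1 : Module.End K V6)) (hT1 : ∀ e : K, ∃ v, T (T v) ≠ e • v) :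
    ∃ c, QT T c l := by
  have : Fact p.Prime := ⟨hp⟩
  obtain ⟨d, hd⟩ := hT0
  have hTinj : ∀ v, T v = 0 → v = 0 := by
    intro v hv
    apply eq_zero_of_forall_sympForm_right
    intro w
    have h1 := hB v w
    rw [hv, sympForm_zero_left] at h1
    exact (mul_eq_zero.1 h1.symm).resolve_left hl
  have hTns : ∀ e : K, T ≠ e • (1 : Module.End K V6) := by
    intro e he
    obtain ⟨v, hv⟩ := hT1 (e * e)
    apply hv
    rw [he]
    simp only [LinearMap.smul_apply, Module.End.one_apply, smul_smul]
  have hpowX : ∀ (n : ℕ) v, (T ^ n) (X v) = X ((T ^ n) v) := by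
    intro n
    induction n with
    | zero => intro v; rfl
    | succ n ih => intro v; rw [pow_succ', Module.End.mul_apply, Module.End.mul_apply, ih, hTX]
  have hTpinj : ∀ (n : ℕ) v, (T ^ n) v = 0 → v = 0 := by
    intro n
    induction n with
    | zero => intro v hv; exact hv
    | succ n ih => intro v hv; rw [pow_succ', Module.End.mul_apply] at hv; exact ih v (hTinj _ hv)
  obtain ⟨v0, hv0⟩ := exists_ne (0 : V6)
  have hd0 : d ≠ 0 := by
    rintro rfl
    apply hv0
    apply hTpinj (Fintype.card K + 1) v0
    rw [hd, zero_smul, LinearMap.zero_apply]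
  have hq : 1 < Fintype.card K := Fintype.one_lt_card
  have hqq : (T ^ Fintype.card K) ^ Fintype.card K = T := by
    have e1 : Fintype.card K * Fintype.card K = (Fintype.card K + 1) * (Fintype.card K - 1) + 1 := by
      obtain ⟨n, hn⟩ : ∃ n, Fintype.card K = n + 1 := ⟨Fintype.card K - 1, by omega⟩
      rw [hn, Nat.add_sub_cancel]
      ring
    rw [← pow_mul, e1, pow_add, pow_mul, hd, smul_pow, one_pow, FiniteField.pow_card_sub_one_eq_one d hd0, one_smul,
      one_mul, pow_one]
  have hcharK : CharP K p := by
    have h1 := FiniteField.card K (ringChar K)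
    obtain ⟨n, hn, hn'⟩ := h1
    have h2 : ringChar K ∣ p ^ a := by
      rw [← hK, hn']
      exact dvd_pow_self _ n.pos.ne'
    have h3 := (Nat.prime_dvd_prime_iff_eq hn hp).1 (hn.dvd_of_dvd_pow h2)
    rw [← h3]
    exact ringChar.charP K
  have hcharE : CharP (Module.End K V6) p :=
    charP_of_injective_algebraMap (FaithfulSMul.algebraMap_injective K (Module.End K V6)) p
  have hz : (T + T ^ Fintype.card K) ^ Fintype.card K = T + T ^ Fintype.card K := by
    have h1 : (T + T ^ Fintype.card K) ^ p ^ a = T ^ p ^ a + (T ^ Fintype.card K) ^ p ^ a :=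
      add_pow_char_pow_of_commute p a (Commute.self_pow T _)
    rw [← hK, hqq] at h1
    rw [h1, add_comm]
  obtain ⟨c, hc⟩ := scalar_of_pow (fun b hb => by
    obtain ⟨v, hv, hv'⟩ := hb
    have h1 := hI (T + T ^ Fintype.card K - b • (1 : Module.End K V6)) (fun w => by
      simp only [LinearMap.sub_apply, LinearMap.add_apply, LinearMap.smul_apply, Module.End.one_apply, hTX, hpowX, map_sub,
        map_add, hXs]) v hv (by
      rw [LinearMap.sub_apply, hv', LinearMap.smul_apply, Module.End.one_apply, sub_self])
    exact sub_eq_zero.1 h1) hz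
  have hTb : T ^ Fintype.card K = c • (1 : Module.End K V6) - T := by rw [← hc, add_sub_cancel_left]
  have hTbv : ∀ v, (T ^ Fintype.card K) v = c • v - T v := fun v => by
    rw [hTb, LinearMap.sub_apply, LinearMap.smul_apply, Module.End.one_apply]
  have hdv : ∀ v, T (c • v - T v) = d • v := fun v => by
    rw [← hTbv, ← Module.End.mul_apply, ← pow_succ', hd, LinearMap.smul_apply, Module.End.one_apply]
  have hsq : ∀ v, T (T v) = c • T v - d • v := fun v => by
    have := hdv v
    rw [map_sub, map_smul] at this
    rw [← this, sub_sub_cancel]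
  -- the adjoint, up to a factor
  obtain ⟨μ, hμ⟩ : ∃ μ, μ = l / d := ⟨_, rfl⟩
  have hμd : μ * d = l := by rw [hμ, div_mul_cancel₀ _ hd0]
  have hadj : ∀ u v, B (T u) v = μ * (c * B u v - B u (T v)) := by
    intro u v
    have h1 : B (T u) (d • v) = l * (c * B u v - B u (T v)) := by
      rw [← hdv, hB, sympForm_sub_right, sympForm_smul_right]
    rw [sympForm_smul_right, ← hμd] at h1
    have h2 : d * (B (T u) v - μ * (c * B u v - B u (T v))) = 0 := by linear_combination h1
    exact sub_eq_zero.1 ((mul_eq_zero.1 h2).resolve_left hd0)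
  have hadj2 : ∀ u v, (1 - μ * μ) * B u (T v) = μ * c * (1 - μ) * B u v := by
    intro u v
    have h1 := hadj v u
    have h2 := hadj u v
    rw [sympForm_swap (T v) u, sympForm_swap v u, sympForm_swap v (T u)] at h1
    linear_combination -h1 - μ * h2
  have hμ1 : (1 - μ * μ) = 0 := by
    by_contra h0
    refine hTns (μ * c * (1 - μ) / (1 - μ * μ)) (LinearMap.ext fun v => ?_)
    apply eq_of_forall_sympForm_left
    intro u
    rw [LinearMap.smul_apply, Module.End.one_apply, sympForm_smul_right]
    apply mul_left_cancel₀ h0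
    rw [hadj2 u v, ← mul_assoc, mul_div_cancel₀ _ h0]
  have hμ2 : μ = 1 := by
    by_contra h1
    have h2 : (1 - μ) * (1 + μ) = 0 := by linear_combination hμ1
    have h3 : μ = -1 := by
      rcases mul_eq_zero.1 h2 with h | h
      · exact absurd (sub_eq_zero.1 h).symm h1
      · linear_combination h
    have h4 : (2 : K) ≠ 0 := by
      intro h4
      apply h1
      rw [h3]
      linear_combination -h4
    have h5 : c = 0 := by
      have h6 : ∀ u v, (μ * c * (1 - μ)) * B u v = 0 := fun u v => by rw [← hadj2, hμ1, zero_mul]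
      by_contra h5
      apply hv0
      apply eq_zero_of_forall_sympForm_left
      intro w
      refine (mul_eq_zero.1 (h6 w v0)).resolve_left ?_
      rw [h3]
      intro h7
      have h8 : 2 * c = 0 := by linear_combination -h7
      rcases mul_eq_zero.1 h8 with h | h
      · exact h4 h
      · exact h5 h
    obtain ⟨v, hv⟩ := hT1 (-d)
    apply hv
    rw [hsq, h5, zero_smul, zero_sub, neg_smul]
  have hdl : d = l := by rw [← hμd, hμ2, one_mul]
  refine ⟨c, ⟨fun v => by rw [hsq, hdl], fun u v => by rw [hadj, hμ2, one_mul], fun v hv h => ?_⟩⟩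
  have h1 := hI (T + T - c • (1 : Module.End K V6)) (fun w => by
    simp only [LinearMap.sub_apply, LinearMap.add_apply, LinearMap.smul_apply, Module.End.one_apply, hTX, map_sub,
      map_add, hXs]) v hv (by
    rw [LinearMap.sub_apply, LinearMap.smul_apply, Module.End.one_apply]
    exact h)
  have h2 : ∀ v, T v + T v = c • v := fun v => by
    have := LinearMap.congr_fun h1 v
    rw [LinearMap.sub_apply, LinearMap.smul_apply, Module.End.one_apply] at this
    exact sub_eq_zero.1 this
  by_cases h4 : (2 : K) = 0
  · obtain ⟨v, hv⟩ := hT1 (-d)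
    apply hv
    have h5 : c • T v = 0 := by
      rw [← h2, ← two_smul K, h4, zero_smul]
    rw [hsq, h5, zero_sub, neg_smul]
  · refine hTns (c / 2) (LinearMap.ext fun v => ?_)
    have h5 := h2 v
    rw [← two_smul K] at h5
    rw [LinearMap.smul_apply, Module.End.one_apply, div_eq_inv_mul, mul_smul, ← h5, smul_smul, inv_mul_cancel₀ h4,
      one_smul]

end quad

/-! ### the planes -/

section plane

variable {T : Module.End K (Fin 3 ⊕ Fin 3 → K)} {c l : K}

/-- the orthogonal projection to the plane spanned by `u`, `T u` -/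
def pr (T : Module.End K V6) (u : V6) : Module.End K V6 :=
  (B u (T u))⁻¹ • (((sympBilin 3 K).flip (T u)).smulRight u + ((sympBilin 3 K) u).smulRight (T u))

theorem pr_apply (T : Module.End K V6) (u v : V6) :
    pr T u v = (B u (T u))⁻¹ • (B v (T u) • u + B u v • T u) := rfl

theorem QT.adj' (h : QT T c l) (u v : V6) : B u (T v) = c * B u v - B (T u) v := by rw [h.adj]; ring

theorem QT.sim (h : QT T c l) (u v : V6) : B (T u) (T v) = l * B u v := by
  rw [h.adj, h.sq, sympForm_sub_right, sympForm_smul_right, sympForm_smul_right]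
  ring

theorem pr_self {u : V6} (hu : B u (T u) ≠ 0) : pr T u u = u := by
  rw [pr_apply, sympForm_self, zero_smul, add_zero, smul_smul, inv_mul_cancel₀ hu, one_smul]

theorem pr_T {u : V6} (hu : B u (T u) ≠ 0) : pr T u (T u) = T u := by
  rw [pr_apply, sympForm_self, zero_smul, zero_add, smul_smul, inv_mul_cancel₀ hu, one_smul]

theorem QT.pr_comm (h : QT T c l) (u v : V6) : pr T u (T v) = T (pr T u v) := by
  rw [pr_apply, pr_apply, map_smul, map_add, map_smul, map_smul, h.sq, h.sim, h.adj' u v, sympForm_swap (T u) v,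
    sympForm_swap v u]
  congr 1
  simp only [smul_sub, smul_smul]
  module

theorem pr_perp {u : V6} (hu : B u (T u) ≠ 0) (v : V6) : B (v - pr T u v) u = 0 ∧ B (v - pr T u v) (T u) = 0 := by
  constructor
  · rw [pr_apply, sympForm_sub_left, sympForm_smul_left, sympForm_add_left, sympForm_smul_left, sympForm_smul_left,
      sympForm_self, sympForm_swap (T u) u, sympForm_swap v u]
    field_simp
    ring
  · rw [pr_apply, sympForm_sub_left, sympForm_smul_left, sympForm_add_left, sympForm_smul_left, sympForm_smul_left,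
      sympForm_self]
    field_simp
    ring

theorem pr_eq_zero {u v : V6} (h1 : B u v = 0) (h2 : B v (T u) = 0) : pr T u v = 0 := by
  rw [pr_apply, h1, h2, zero_smul, zero_smul, add_zero, smul_zero]

/-- `T` on the orthogonal complement of the plane, the conjugate `c - T` on the plane -/
def Tc (T : Module.End K V6) (c : K) (u : V6) : Module.End K V6 :=
  T + (c • (1 : Module.End K V6) - T - T) * pr T u

theorem Tc_apply (T : Module.End K V6) (c : K) (u v : V6) :
    Tc T c u v = T v + (c • pr T u v - T (pr T u v) - T (pr T u v)) := rfl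

theorem QT.Tc_comm (h : QT T c l) (u v : V6) : T (Tc T c u v) = Tc T c u (T v) := by
  rw [Tc_apply, Tc_apply, h.pr_comm]
  simp only [map_add, map_sub, map_smul]

theorem Tc_self {u : V6} (hu : B u (T u) ≠ 0) : Tc T c u u = c • u - T u := by
  rw [Tc_apply, pr_self hu]
  abel

theorem Tc_perp {u v : V6} (h1 : B u v = 0) (h2 : B v (T u) = 0) : Tc T c u v = T v := by
  rw [Tc_apply, pr_eq_zero h1 h2]
  simp

/-- the isometry `u ↦ e u`, `T u ↦ e (c - T) u`, `e = x + y T`, trivial on the complement of the plane -/
def wm (T : Module.End K V6) (c l x y : K) (u : V6) : Module.End K V6 :=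
  1 - pr T u + (B u (T u))⁻¹ • (((sympBilin 3 K).flip (T u)).smulRight (x • u + y • T u) +
    ((sympBilin 3 K) u).smulRight ((c * x + l * y) • u - x • T u))

theorem wm_apply (T : Module.End K V6) (c l x y : K) (u v : V6) :
    wm T c l x y u v = v - pr T u v + (B u (T u))⁻¹ • (B v (T u) • (x • u + y • T u) +
      B u v • ((c * x + l * y) • u - x • T u)) := rfl

theorem wm_iso {x y : K} (hxy : x * x + c * x * y + l * y * y = -1) {u : V6} (hu : B u (T u) ≠ 0) (v v' : V6) :
    B (wm T c l x y u v) (wm T c l x y u v') = B v v' := by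
  obtain ⟨h1, h2⟩ := pr_perp hu v
  obtain ⟨h3, h4⟩ := pr_perp hu v'
  have e : B v v' = B (v - pr T u v + pr T u v) (v' - pr T u v' + pr T u v') := by rw [sub_add_cancel, sub_add_cancel]
  rw [e, wm_apply, wm_apply]
  obtain ⟨v₀, hv₀⟩ : ∃ v₀, v₀ = v - pr T u v := ⟨_, rfl⟩
  obtain ⟨w₀, hw₀⟩ : ∃ w₀, w₀ = v' - pr T u v' := ⟨_, rfl⟩
  rw [← hv₀] at h1 h2 ⊢
  rw [← hw₀] at h3 h4 ⊢
  have h5 : B u w₀ = 0 := by rw [sympForm_swap, h3, neg_zero]
  have h6 : B (T u) w₀ = 0 := by rw [sympForm_swap, h4, neg_zero]
  rw [pr_apply, pr_apply]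
  simp only [sympForm_add_left, sympForm_add_right, sympForm_sub_left, sympForm_sub_right, sympForm_smul_left,
    sympForm_smul_right, h1, h2, h5, h6, sympForm_self, sympForm_swap (T u) u]
  obtain ⟨b, hb⟩ : ∃ b, b = B u (T u) := ⟨_, rfl⟩
  rw [← hb] at hu ⊢
  field_simp
  linear_combination (-(b * (B v (T u) * B u v' - B u v * B v' (T u)))) * hxy

theorem QT.wm_T (h : QT T c l) (x y : K) {u : V6} (hu : B u (T u) ≠ 0) (v : V6) :
    wm T c l x y u (T v) = Tc T c u (wm T c l x y u v) := by
  obtain ⟨b, hb⟩ : ∃ b, b = (B u (T u))⁻¹ := ⟨_, rfl⟩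
  obtain ⟨α, hα⟩ : ∃ α, α = b * B v (T u) := ⟨_, rfl⟩
  obtain ⟨β, hβ⟩ : ∃ β, β = b * B u v := ⟨_, rfl⟩
  have e1 : wm T c l x y u v = v - pr T u v + (α • (x • u + y • T u) + β • ((c * x + l * y) • u - x • T u)) := by
    rw [wm_apply, hα, hβ, hb, smul_add, smul_smul, smul_smul]
  have e2 : wm T c l x y u (T v) = T v - T (pr T u v) + ((-l * β) • (x • u + y • T u) +
      (c * β + α) • ((c * x + l * y) • u - x • T u)) := by
    rw [wm_apply, h.pr_comm, h.sim, h.adj' u v, sympForm_swap (T u) v, sympForm_swap v u, hα, hβ, hb, smul_add, smul_smul,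
      smul_smul]
    congr 2
    · congr 1
      ring
    · congr 1
      ring
  have e3 : pr T u (v - pr T u v + (α • (x • u + y • T u) + β • ((c * x + l * y) • u - x • T u))) =
      α • (x • u + y • T u) + β • ((c * x + l * y) • u - x • T u) := by
    obtain ⟨h1, h2⟩ := pr_perp hu v
    rw [map_add, pr_eq_zero (by rw [sympForm_swap, h1, neg_zero]) h2, zero_add]
    simp only [map_add, map_sub, map_smul, pr_self hu, pr_T hu]
  rw [e1, e2, Tc_apply, e3]
  simp only [map_add, map_sub, map_smul, h.sq]
  module

/-- pairwise orthogonal planes -/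
structure Orth {n : ℕ} (T : Module.End K V6) (u : Fin n → V6) : Prop where
  ne : ∀ i, B (u i) (T (u i)) ≠ 0
  perp : ∀ i j, i ≠ j → B (u i) (u j) = 0
  perpT : ∀ i j, i ≠ j → B (u i) (T (u j)) = 0

/-- a further plane -/
theorem QT.exists_next (h : QT T c l) {n : ℕ} (hn : n < 3) {u : Fin n → V6} (hu : Orth T u) :
    ∃ v : V6, B v (T v) ≠ 0 ∧ ∀ i, B (u i) v = 0 ∧ B v (T (u i)) = 0 := by
  by_contra hcon
  push Not at hcon
  have hW : ∀ v : V6, (∀ i, B (u i) v = 0 ∧ B v (T (u i)) = 0) → B v (T v) = 0 := by
    intro v hv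
    by_contra h0
    obtain ⟨i, hi⟩ := hcon v h0
    exact hi (hv i).1 (hv i).2
  -- a nonzero vector in the complement
  let φ : V6 →ₗ[K] (Fin n ⊕ Fin n → K) := LinearMap.pi (Sum.elim (fun i => (sympBilin 3 K).flip (T (u i)))
    (fun i => (sympBilin 3 K) (u i)))
  have hker : LinearMap.ker φ ≠ ⊥ := by
    apply LinearMap.ker_ne_bot_of_finrank_lt
    rw [finrank_fintype_fun_eq_card, finrank_fintype_fun_eq_card, Fintype.card_sum, Fintype.card_sum, Fintype.card_fin,
      Fintype.card_fin]
    omega
  obtain ⟨w, hw, hw0⟩ := Submodule.exists_mem_ne_zero_of_ne_bot hker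
  rw [LinearMap.mem_ker] at hw
  have hw' : ∀ i, B (u i) w = 0 ∧ B w (T (u i)) = 0 := fun i =>
    ⟨congrFun hw (Sum.inr i), congrFun hw (Sum.inl i)⟩
  refine h.inj w hw0 (eq_zero_of_forall_sympForm_left fun z => ?_)
  obtain ⟨z₀, hz₀⟩ : ∃ z₀, z₀ = z - ∑ i, pr T (u i) z := ⟨_, rfl⟩
  have hz : z = z₀ + ∑ i, pr T (u i) z := by rw [hz₀, sub_add_cancel]
  have e1 : ∀ (x : V6) (f : Fin n → V6), B x (∑ i, f i) = ∑ i, B x (f i) := fun x f =>
    map_sum (sympBilin 3 K x) f Finset.univ
  have e2 : ∀ (x : V6) (f : Fin n → V6), B (∑ i, f i) x = ∑ i, B (f i) x := fun x f =>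
    map_sum ((sympBilin 3 K).flip x) f Finset.univ
  have hz₀W : ∀ j, B (u j) z₀ = 0 ∧ B z₀ (T (u j)) = 0 := by
    intro j
    have h1 := pr_perp (hu.ne j) z
    constructor
    · rw [hz₀, sympForm_sub_right, e1, Finset.sum_eq_single j]
      · rw [← sympForm_sub_right, sympForm_swap, h1.1, neg_zero]
      · intro i _ hij
        rw [pr_apply, sympForm_smul_right, sympForm_add_right, sympForm_smul_right, sympForm_smul_right,
          hu.perp j i hij.symm, hu.perpT j i hij.symm]
        ring
      · intro h2
        exact absurd (Finset.mem_univ j) h2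
    · rw [hz₀, sympForm_sub_left, e2, Finset.sum_eq_single j]
      · rw [← sympForm_sub_left, h1.2]
      · intro i _ hij
        rw [pr_apply, sympForm_smul_left, sympForm_add_left, sympForm_smul_left, sympForm_smul_left,
          hu.perpT i j hij, h.sim, hu.perp i j hij]
        ring
      · intro h2
        exact absurd (Finset.mem_univ j) h2
  have hT : ∀ i, B (u i) (T w) = 0 ∧ B (T (u i)) (T w) = 0 := by
    intro i
    constructor
    · rw [h.adj', (hw' i).1, sympForm_swap, (hw' i).2]
      ring
    · rw [h.sim, (hw' i).1, mul_zero]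
  rw [hz, sympForm_add_left, e2]
  have e3 : B z₀ (T w + T w - c • w) = 0 := by
    have h1 := hW (z₀ + w) (fun i => by
      rw [sympForm_add_right, sympForm_add_left, (hz₀W i).1, (hz₀W i).2, (hw' i).1, (hw' i).2, add_zero]
      exact ⟨rfl, rfl⟩)
    rw [map_add, sympForm_add_left, sympForm_add_right, sympForm_add_right, hW z₀ hz₀W, hW w hw', zero_add, add_zero,
      sympForm_swap w, h.adj z₀ w] at h1
    rw [sympForm_sub_right, sympForm_add_right, sympForm_smul_right]
    linear_combination h1
  rw [e3, zero_add]
  refine Finset.sum_eq_zero fun i _ => ?_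
  have h2 : B (T (u i)) w = 0 := by rw [sympForm_swap, (hw' i).2, neg_zero]
  rw [pr_apply, sympForm_smul_left, sympForm_add_left, sympForm_smul_left, sympForm_smul_left, sympForm_sub_right,
    sympForm_sub_right, sympForm_add_right, sympForm_add_right, sympForm_smul_right, sympForm_smul_right, (hT i).1, (hT i).2,
    (hw' i).1, h2]
  ring

/-- three planes -/
theorem QT.exists_orth (h : QT T c l) (n : ℕ) (hn : n ≤ 3) : ∃ u : Fin n → V6, Orth T u := by
  induction n with
  | zero => exact ⟨Fin.elim0, ⟨fun i => i.elim0, fun i => i.elim0, fun i => i.elim0⟩⟩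
  | succ n ih =>
    obtain ⟨u, hu⟩ := ih (by omega)
    obtain ⟨v, hv, hv'⟩ := h.exists_next (by omega) hu
    refine ⟨Fin.snoc u v, ⟨fun i => ?_, fun i j hij => ?_, fun i j hij => ?_⟩⟩
    · induction i using Fin.lastCases with
      | last => simpa using hv
      | cast i => simpa using hu.ne i
    · induction i using Fin.lastCases with
      | last =>
        induction j using Fin.lastCases with
        | last => exact absurd rfl hij
        | cast j =>
          simp only [Fin.snoc_last, Fin.snoc_castSucc]
          rw [sympForm_swap, (hv' j).1, neg_zero]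
      | cast i =>
        induction j using Fin.lastCases with
        | last =>
          simp only [Fin.snoc_last, Fin.snoc_castSucc]
          exact (hv' i).1
        | cast j =>
          simp only [Fin.snoc_castSucc]
          exact hu.perp i j (fun h0 => hij (by rw [h0]))
    · induction i using Fin.lastCases with
      | last =>
        induction j using Fin.lastCases with
        | last => exact absurd rfl hij
        | cast j =>
          simp only [Fin.snoc_last, Fin.snoc_castSucc]
          exact (hv' j).2
      | cast i =>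
        induction j using Fin.lastCases with
        | last =>
          simp only [Fin.snoc_last, Fin.snoc_castSucc]
          rw [h.adj', (hv' i).1, sympForm_swap (T (u i)) v, (hv' i).2]
          ring
        | cast j =>
          simp only [Fin.snoc_castSucc]
          exact hu.perpT i j (fun h0 => hij (by rw [h0]))

/-- the decomposition into three planes -/
theorem QT.decomp (h : QT T c l) {u : Fin 3 → V6} (hu : Orth T u) (v : V6) :
    pr T (u 0) v + pr T (u 1) v + pr T (u 2) v = v := by
  let φ : V6 →ₗ[K] V6 := LinearMap.pi (Sum.elim (fun i => (sympBilin 3 K).flip (T (u i)))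
    (fun i => (sympBilin 3 K) (u i)))
  have hφ1 : ∀ (z : V6) i, φ z (Sum.inl i) = B z (T (u i)) := fun _ _ => rfl
  have hφ2 : ∀ (z : V6) i, φ z (Sum.inr i) = B (u i) z := fun _ _ => rfl
  have hone : ∀ (i : Fin 3) (z : V6), (∀ j, B (pr T (u i) z) (T (u j)) = if i = j then B z (T (u j)) else 0) ∧
      ∀ j, B (u j) (pr T (u i) z) = if i = j then B (u j) z else 0 := by
    intro i z
    have h1 := pr_perp (hu.ne i) z
    constructor
    · intro j
      split_ifs with hij
      · subst hij
        have := h1.2
        rw [sympForm_sub_left] at this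
        exact (sub_eq_zero.1 this).symm
      · rw [pr_apply, sympForm_smul_left, sympForm_add_left, sympForm_smul_left, sympForm_smul_left,
          hu.perpT i j hij, h.sim, hu.perp i j hij]
        ring
    · intro j
      split_ifs with hij
      · subst hij
        have := h1.1
        rw [sympForm_swap, sympForm_sub_right, neg_sub] at this
        exact sub_eq_zero.1 this
      · rw [pr_apply, sympForm_smul_right, sympForm_add_right, sympForm_smul_right, sympForm_smul_right,
          hu.perp j i (fun h0 => hij h0.symm), hu.perpT j i (fun h0 => hij h0.symm)]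
        ring
  have hsum : ∀ z, φ (pr T (u 0) z + pr T (u 1) z + pr T (u 2) z) = φ z := by
    intro z
    funext j
    rcases j with j | j
    · rw [hφ1, hφ1, sympForm_add_left, sympForm_add_left, (hone 0 z).1, (hone 1 z).1, (hone 2 z).1]
      fin_cases j <;> simp
    · rw [hφ2, hφ2, sympForm_add_right, sympForm_add_right, (hone 0 z).2, (hone 1 z).2, (hone 2 z).2]
      fin_cases j <;> simp
  have hsurj : Function.Surjective φ := by
    intro y
    let f : Fin 3 → V6 := fun i => (B (u i) (T (u i)))⁻¹ • (y (Sum.inl i) • u i + y (Sum.inr i) • T (u i))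
    have hf : ∀ i, (∀ j, B (f i) (T (u j)) = if i = j then y (Sum.inl j) else 0) ∧
        ∀ j, B (u j) (f i) = if i = j then y (Sum.inr j) else 0 := by
      intro i
      have hb := hu.ne i
      constructor
      · intro j
        change B ((B (u i) (T (u i)))⁻¹ • (y (Sum.inl i) • u i + y (Sum.inr i) • T (u i))) (T (u j)) = _
        rw [sympForm_smul_left, sympForm_add_left, sympForm_smul_left, sympForm_smul_left]
        split_ifs with hij
        · subst hij
          rw [sympForm_self]
          field_simp
          ring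
        · rw [hu.perpT i j hij, h.sim, hu.perp i j hij]
          ring
      · intro j
        change B (u j) ((B (u i) (T (u i)))⁻¹ • (y (Sum.inl i) • u i + y (Sum.inr i) • T (u i))) = _
        rw [sympForm_smul_right, sympForm_add_right, sympForm_smul_right, sympForm_smul_right]
        split_ifs with hij
        · subst hij
          rw [sympForm_self]
          field_simp
          ring
        · rw [hu.perp j i (fun h0 => hij h0.symm), hu.perpT j i (fun h0 => hij h0.symm)]
          ring
    refine ⟨f 0 + f 1 + f 2, ?_⟩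
    funext j
    rcases j with j | j
    · rw [hφ1, sympForm_add_left, sympForm_add_left, (hf 0).1, (hf 1).1, (hf 2).1]
      fin_cases j <;> simp
    · rw [hφ2, sympForm_add_right, sympForm_add_right, (hf 0).2, (hf 1).2, (hf 2).2]
      fin_cases j <;> simp
  exact LinearMap.injective_iff_surjective.2 hsurj (hsum v)

end plane

end Cfsg.Agent.H466.O8S
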