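import Cfsg.Agent.H466.O8S.SpLin

/-!
# S3938-OPLUS8: the three conjugates of `T` (helper466)
-/

set_option autoImplicit false

namespace Cfsg.Agent.H466.O8S

open Module
open Cfsg.Agent.ClassicalGeometry.SympBasic

variable {K : Type} [Field K] {T : Module.End K (Fin 3 ⊕ Fin 3 → K)} {c l : K}

local notation "V6" => (Fin 3 ⊕ Fin 3 → K)

local notation "B" => sympForm 3 K

theorem QT.pr_pr (h : QT T c l) {n : ℕ} {u : Fin n → V6} (hu : Orth T u) {i j : Fin n} (hij : i ≠ j) (v : V6) :
    pr T (u i) (pr T (u j) v) = 0 := by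
  apply pr_eq_zero
  · rw [pr_apply, sympForm_smul_right, sympForm_add_right, sympForm_smul_right, sympForm_smul_right,
      hu.perp i j hij, hu.perpT i j hij]
    ring
  · rw [pr_apply, sympForm_smul_left, sympForm_add_left, sympForm_smul_left, sympForm_smul_left,
      hu.perpT j i hij.symm, h.sim, hu.perp j i hij.symm]
    ring

/-- the product of the three conjugates -/
theorem QT.triple (h : QT T c l) {u : Fin 3 → V6} (hu : Orth T u) (v : V6) :
    Tc T c (u 0) (Tc T c (u 1) (Tc T c (u 2) v)) = l • T v := by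
  have hd := h.decomp hu v
  obtain ⟨v0, hv0⟩ : ∃ v0, v0 = pr T (u 0) v := ⟨_, rfl⟩
  obtain ⟨v1, hv1⟩ : ∃ v1, v1 = pr T (u 1) v := ⟨_, rfl⟩
  obtain ⟨v2, hv2⟩ : ∃ v2, v2 = pr T (u 2) v := ⟨_, rfl⟩
  rw [← hv0, ← hv1, ← hv2] at hd
  have h12 : pr T (u 1) v2 = 0 := by rw [hv2]; exact h.pr_pr hu (by decide) v
  have h02 : pr T (u 0) v2 = 0 := by rw [hv2]; exact h.pr_pr hu (by decide) v
  have h01 : pr T (u 0) v1 = 0 := by rw [hv1]; exact h.pr_pr hu (by decide) v
  have e2 : Tc T c (u 2) v = T v + (c • v2 - T v2 - T v2) := by rw [Tc_apply, ← hv2]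
  have e1 : pr T (u 1) (Tc T c (u 2) v) = T v1 := by
    rw [e2]
    simp only [map_add, map_sub, map_smul, h.pr_comm, h12, ← hv1, map_zero, smul_zero, sub_zero, add_zero]
  have e0 : pr T (u 0) (Tc T c (u 1) (Tc T c (u 2) v)) = T (T v0) := by
    rw [Tc_apply, e1, e2]
    simp only [map_add, map_sub, map_smul, h.pr_comm, h02, h01, ← hv0, map_zero, smul_zero, sub_zero, add_zero]
  rw [Tc_apply, e0, Tc_apply, e1, e2, ← hd]
  simp only [map_add, map_sub, map_smul, h.sq]
  module

theorem QT.exists_norm [Fintype K] (h : QT T c l) : ∃ x y : K, x * x + c * x * y + l * y * y = -1 := by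
  by_cases h2 : (2 : K) = 0
  · refine ⟨1, 0, ?_⟩
    linear_combination h2
  · have hδ : l - c * c / 4 ≠ 0 := by
      intro h0
      have h4 : (4 : K) ≠ 0 := by
        intro h4
        have : (2 : K) * 2 = 0 := by linear_combination h4
        rcases mul_eq_zero.1 this with h | h <;> exact h2 h
      have hl : 4 * l = c * c := by
        field_simp at h0
        linear_combination h0
      obtain ⟨v, hv⟩ := exists_ne (0 : V6)
      refine h.inj _ (h.inj v hv) ?_
      simp only [map_add, map_sub, map_smul, h.sq]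
      have : (c * c) • v - (4 * l) • v = 0 := by rw [hl, sub_self]
      rw [← this]
      module
    have hodd : Fintype.card K % 2 = 1 := FiniteField.odd_card_of_char_ne_two (by
      intro h0
      apply h2
      have := ringChar.Nat.cast_ringChar (R := K)
      rw [h0] at this
      exact_mod_cast this)
    obtain ⟨s, y, hsy⟩ := FiniteField.exists_root_sum_quadratic
      (f := Polynomial.C (1 : K) * Polynomial.X ^ 2 + Polynomial.C 0 * Polynomial.X + Polynomial.C 1)
      (g := Polynomial.C (l - c * c / 4) * Polynomial.X ^ 2 + Polynomial.C 0 * Polynomial.X + Polynomial.C 0)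
      (Polynomial.degree_quadratic one_ne_zero) (Polynomial.degree_quadratic hδ) hodd
    simp only [Polynomial.eval_add, Polynomial.eval_mul, Polynomial.eval_C, Polynomial.eval_pow, Polynomial.eval_X] at hsy
    obtain ⟨c', hc'⟩ : ∃ c', c' = c / 2 := ⟨_, rfl⟩
    have e1 : c = 2 * c' := by rw [hc', mul_div_cancel₀ _ h2]
    have h4 : (4 : K) ≠ 0 := by
      intro h4
      have : (2 : K) * 2 = 0 := by linear_combination h4
      rcases mul_eq_zero.1 this with h | h <;> exact h2 h
    have e2 : c * c / 4 = c' * c' := by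
      rw [div_eq_iff h4, e1]
      ring
    rw [e2] at hsy
    refine ⟨s - c' * y, y, ?_⟩
    rw [e1]
    linear_combination hsy

end Cfsg.Agent.H466.O8S
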