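import Cfsg.Agent.H823.O8S.Defs
import Cfsg.Agent.H375.O8.TypeA
import Cfsg.Agent.H375.O8.TypeB
import Cfsg.Agent.H466.O8S.Fld

/-!
# S3938-OPLUS8 (O2): `exists_wit`
-/

set_option autoImplicit false
set_option linter.unusedSectionVars false

namespace Cfsg.Agent.H466.O8S

open Module QuadraticMap Cfsg Cfsg.Geo Cfsg.Agent.LieClassical.OrthCore Cfsg.Agent.H955 Cfsg.Agent.H954.TSing
open Cfsg.Agent.LieClassical.OmegaReindex Cfsg.Agent.H957
open Cfsg.Agent.H951 (fx cm Inv)
open Cfsg.Agent.H884.El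
open Cfsg.Agent.H708.O8 (I8 T8)
open Cfsg.Agent.H823.O8S
open Cfsg.Agent.H375.O8 (lin_glOf sq_mem_omegaGL)
open scoped MatrixGroups Matrix

section Tr

variable {F K : Type} [Field F] [Field K] [Algebra F K]

/-- multiplication by a unit of `K` -/
def mulK (F : Type) {K : Type} [Field F] [Field K] [Algebra F K] : Kˣ →* ((K × (F × F)) ≃ₗ[F] (K × (F × F))) where
  toFun u :=
    { toFun := fun v => ((u : K) * v.1, v.2)
      map_add' := fun v w => Prod.ext (mul_add _ _ _) rfl
      map_smul' := fun r v => Prod.ext (mul_smul_comm _ _ _) rfl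
      invFun := fun v => (((u⁻¹ : Kˣ) : K) * v.1, v.2)
      left_inv := fun v => Prod.ext (by simp) rfl
      right_inv := fun v => Prod.ext (by simp) rfl }
  map_one' := LinearEquiv.ext fun v => Prod.ext (one_mul _) rfl
  map_mul' u w := LinearEquiv.ext fun v => Prod.ext (mul_assoc _ _ _) rfl

theorem mulK_apply (u : Kˣ) (v : K × (F × F)) : mulK F u v = ((u : K) * v.1, v.2) := rfl

theorem mulK_injective : Function.Injective (mulK F : Kˣ →* ((K × (F × F)) ≃ₗ[F] (K × (F × F)))) := by
  intro u w h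
  have h1 := congrArg (fun T : (K × (F × F)) ≃ₗ[F] (K × (F × F)) => (T (1, 0)).1) h
  simp only [mulK_apply, mul_one] at h1
  exact Units.ext h1

/-- multiplication by `ω` on `F²` -/
def rotV (K : Type) {F : Type} [Field F] [Field K] [Algebra F K] (c : F) :
    (K × (F × F)) ≃ₗ[F] (K × (F × F)) :=
  (LinearEquiv.refl F K).prodCongr (rot c)

theorem rotV_apply (c : F) (v : K × (F × F)) : rotV K c v = (v.1, rot c v.2) := rfl

variable {σ : K →ₐ[F] K} {φ : K →ₗ[F] F} {ω : Kˣ} {α : K} {c : F}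

theorem Dat.rotV_pow (D : Dat σ φ (ω : K) α c) (n : ℕ) (v : K × (F × F)) :
    ((rotV K c ^ n) v).1 = v.1 ∧ eta (ω : K) ((rotV K c ^ n) v).2 = (ω : K) ^ n * eta (ω : K) v.2 := by
  induction n with
  | zero => exact ⟨rfl, by rw [pow_zero, pow_zero, one_mul]; rfl⟩
  | succ n ih =>
    rw [pow_succ', LinearEquiv.mul_apply, rotV_apply]
    refine ⟨ih.1, ?_⟩
    simp only
    rw [D.eta_rot, ih.2, pow_succ]
    ring

theorem Dat.orderOf_rotV (D : Dat σ φ (ω : K) α c) : orderOf (rotV K c) = orderOf ω := by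
  rw [orderOf_eq_orderOf_iff]
  intro n
  constructor
  · intro h
    have h1 := (D.rotV_pow n (0, (1, 0))).2
    rw [h] at h1
    have h2 : eta (ω : K) ((1 : F), (0 : F)) = 1 := by rw [eta_apply, map_one, map_zero, zero_mul, add_zero]
    change eta (ω : K) ((1 : F), (0 : F)) = _ * eta (ω : K) ((1 : F), (0 : F)) at h1
    rw [h2, mul_one] at h1
    apply Units.ext
    rw [Units.val_pow_eq_pow_val, ← h1, Units.val_one]
  · intro h
    apply LinearEquiv.ext
    intro v
    obtain ⟨h1, h2⟩ := D.rotV_pow n v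
    have h3 : (ω : K) ^ n = 1 := by rw [← Units.val_pow_eq_pow_val, h, Units.val_one]
    rw [h3, one_mul] at h2
    exact Prod.ext h1 (D.eta_inj h2)

variable (e : (K × (F × F)) ≃ₗ[F] (I8 → F))

/-- the transport -/
noncomputable def Phi : ((K × (F × F)) ≃ₗ[F] (K × (F × F))) →* GL I8 F where
  toFun T := glOf (e.symm.trans (T.trans e))
  map_one' := by
    have h : (e.symm.trans ((1 : (K × (F × F)) ≃ₗ[F] (K × (F × F))).trans e)) = 1 :=
      LinearEquiv.ext fun v => e.apply_symm_apply v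
    rw [h, glOf_one]
  map_mul' S T := by
    rw [← glOf_mul]
    congr 1
    apply LinearEquiv.ext
    intro v
    change e (S (T (e.symm v))) = e (S (e.symm (e (T (e.symm v)))))
    rw [e.symm_apply_apply]

theorem lin_Phi (T : (K × (F × F)) ≃ₗ[F] (K × (F × F))) (v : I8 → F) : lin (Phi e T) v = e (T (e.symm v)) := by
  change lin (glOf (e.symm.trans (T.trans e))) v = _
  rw [lin_glOf]
  rfl

theorem Phi_injective : Function.Injective (Phi e) := by
  intro S T h
  apply LinearEquiv.ext
  intro v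
  have h1 := lin_Phi e S (e v)
  rw [h, lin_Phi, e.symm_apply_apply] at h1
  exact (e.injective h1).symm

/-- transport of endomorphisms -/
def tr (T : Module.End F (K × (F × F))) : Module.End F (I8 → F) :=
  (e : (K × (F × F)) →ₗ[F] (I8 → F)) ∘ₗ T ∘ₗ (e.symm : (I8 → F) →ₗ[F] (K × (F × F)))

theorem tr_apply (T : Module.End F (K × (F × F))) (v : I8 → F) : tr e T v = e (T (e.symm v)) := rfl

theorem Phi_mem (he : ∀ v, quadFormPlus 4 F (e v) = QV σ φ c v)
    {T : (K × (F × F)) ≃ₗ[F] (K × (F × F))} (hT : ∀ v, QV σ φ c (T v) = QV σ φ c v) :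
    Phi e T ∈ isometryGroup F (quadFormPlus 4 F) := by
  rw [H957.mem_isometryGroup]
  intro v
  rw [← Matrix.toLin'_apply]
  change quadFormPlus 4 F (lin (Phi e T) v) = _
  rw [lin_Phi, he, hT, ← he, e.apply_symm_apply]

theorem QV_mulK {u : Kˣ} (hu : (u : K) * σ u = 1) (v : K × (F × F)) :
    QV σ φ c (mulK F u v) = QV σ φ c v := by
  rw [QV_apply, QV_apply, mulK_apply]
  simp only
  have h : (u : K) * v.1 * σ ((u : K) * v.1) = v.1 * σ v.1 := by
    rw [map_mul]
    linear_combination (v.1 * σ v.1) * hu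
  rw [h]

theorem QV_rotV (v : K × (F × F)) : QV σ φ c (rotV K c v) = QV σ φ c v := by
  rw [QV_apply, QV_apply, rotV_apply]
  simp only
  rw [nn_rot]

/-- the two submodules -/
abbrev PK : Submodule F (I8 → F) :=
  LinearMap.range ((e : (K × (F × F)) →ₗ[F] (I8 → F)) ∘ₗ LinearMap.inl F K (F × F))

abbrev PE : Submodule F (I8 → F) :=
  LinearMap.range ((e : (K × (F × F)) →ₗ[F] (I8 → F)) ∘ₗ LinearMap.inr F K (F × F))

theorem finrank_PK : finrank F (PK e) = finrank F K :=
  LinearMap.finrank_range_of_inj (e.injective.comp LinearMap.inl_injective)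

theorem finrank_PE : finrank F (PE e) = 2 := by
  have h : Function.Injective ((e : (K × (F × F)) →ₗ[F] (I8 → F)) ∘ₗ LinearMap.inr F K (F × F)) :=
    e.injective.comp LinearMap.inr_injective
  rw [LinearMap.finrank_range_of_inj h, Module.finrank_prod, Module.finrank_self]

theorem mem_PE {v : I8 → F} : v ∈ PE e ↔ (e.symm v).1 = 0 := by
  constructor
  · rintro ⟨a, rfl⟩
    change (e.symm (e (0, a))).1 = 0
    rw [e.symm_apply_apply]
  · intro h
    refine ⟨(e.symm v).2, ?_⟩
    change e (0, (e.symm v).2) = v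
    rw [← h]
    exact e.apply_symm_apply v

theorem mem_PK {v : I8 → F} : v ∈ PK e ↔ (e.symm v).2 = 0 := by
  constructor
  · rintro ⟨a, rfl⟩
    change (e.symm (e (a, 0))).2 = 0
    rw [e.symm_apply_apply]
  · intro h
    refine ⟨(e.symm v).1, ?_⟩
    change e ((e.symm v).1, 0) = v
    rw [← h]
    exact e.apply_symm_apply v

theorem mem_cm' {T : Module.End F (I8 → F)} {v : I8 → F} : v ∈ cm T ↔ ∃ w, T w - w = v := by
  rw [cm, LinearMap.mem_range]
  rfl

theorem mem_fx' {T : Module.End F (I8 → F)} {v : I8 → F} : v ∈ fx T ↔ T v = v := by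
  rw [fx, LinearMap.mem_ker, LinearMap.sub_apply, Module.End.one_apply, sub_eq_zero]

theorem cm_mulK {u : Kˣ} (hu : u ≠ 1) : cm (lin (Phi e (mulK F u))) = PK e := by
  ext v
  rw [mem_cm', mem_PK]
  constructor
  · rintro ⟨w, rfl⟩
    rw [lin_Phi, map_sub, e.symm_apply_apply, mulK_apply, Prod.snd_sub]
    exact sub_self _
  · intro h
    have h1 : (u : K) - 1 ≠ 0 := fun h2 => hu (Units.ext (by rw [sub_eq_zero.1 h2]; rfl))
    refine ⟨e (((u : K) - 1)⁻¹ * (e.symm v).1, 0), ?_⟩
    rw [lin_Phi, e.symm_apply_apply, ← map_sub, mulK_apply]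
    have h2 : (((u : K) * (((u : K) - 1)⁻¹ * (e.symm v).1), (0 : F × F)) -
        (((u : K) - 1)⁻¹ * (e.symm v).1, (0 : F × F)) : K × (F × F)) = e.symm v := by
      refine Prod.ext ?_ ?_
      · rw [Prod.fst_sub]
        simp only
        field_simp
      · rw [Prod.snd_sub, h]
        exact sub_self _
    rw [h2, e.apply_symm_apply]

theorem fx_mulK {u : Kˣ} (hu : u ≠ 1) : fx (lin (Phi e (mulK F u))) = PE e := by
  ext v
  rw [mem_fx', mem_PE, lin_Phi]
  have h1 : (u : K) - 1 ≠ 0 := fun h2 => hu (Units.ext (by rw [sub_eq_zero.1 h2]; rfl))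
  constructor
  · intro h
    have h2 := congrArg (fun w => (e.symm w).1) h
    simp only [e.symm_apply_apply, mulK_apply] at h2
    have h3 : ((u : K) - 1) * (e.symm v).1 = 0 := by linear_combination h2
    exact (mul_eq_zero.1 h3).resolve_left h1
  · intro h
    have h2 : mulK F u (e.symm v) = e.symm v := by
      rw [mulK_apply]
      exact Prod.ext (by simp only; rw [h, mul_zero]) rfl
    rw [h2, e.apply_symm_apply]

theorem Dat.cm_rotV (D : Dat σ φ (ω : K) α c) : cm (lin (Phi e (rotV K c ^ 2))) = PE e := by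
  have hω2 : (ω : K) ^ 2 - 1 ≠ 0 := by
    intro h
    have h1 : (ω : K) * ω = 1 := by linear_combination h
    rcases mul_self_eq_one_iff.1 h1 with h5 | h5
    · exact D.nmem 1 (by rw [map_one, h5])
    · exact D.nmem (-1) (by rw [map_neg, map_one, h5])
  ext v
  rw [mem_cm', mem_PE]
  constructor
  · rintro ⟨w, rfl⟩
    rw [lin_Phi, map_sub, e.symm_apply_apply, Prod.fst_sub, (D.rotV_pow 2 _).1, sub_self]
  · intro h
    let f : (F × F) →ₗ[F] (F × F) := ((rot c : (F × F) →ₗ[F] (F × F)) ∘ₗ (rot c : (F × F) →ₗ[F] (F × F))) - LinearMap.id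
    have hf : ∀ a, f a = rot c (rot c a) - a := fun a => rfl
    have hinj : Function.Injective f := by
      rw [← LinearMap.ker_eq_bot, LinearMap.ker_eq_bot']
      intro a ha
      rw [hf] at ha
      have h1 := congrArg (eta (ω : K)) ha
      rw [map_sub, D.eta_rot, D.eta_rot, map_zero] at h1
      have h2 : ((ω : K) ^ 2 - 1) * eta (ω : K) a = 0 := by linear_combination h1
      have h3 := (mul_eq_zero.1 h2).resolve_left hω2
      exact D.eta_inj (h3.trans (map_zero _).symm)
    obtain ⟨a, ha⟩ := LinearMap.surjective_of_injective hinj (e.symm v).2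
    refine ⟨e (0, a), ?_⟩
    rw [lin_Phi, e.symm_apply_apply, ← map_sub]
    have h2 : ((rotV K c ^ 2) ((0, a) : K × (F × F)) - (0, a) : K × (F × F)) = e.symm v := by
      refine Prod.ext ?_ ?_
      · rw [Prod.fst_sub, (D.rotV_pow 2 _).1, h]
        exact sub_self _
      · rw [← ha, hf]
        rfl
    rw [h2, e.apply_symm_apply]

end Tr

section Main

variable {F : Type} [Field F] [Fintype F] {p a r k : ℕ}

theorem mt_eq {q : ℕ} (hq : 1 ≤ q) : (q + 1) / Nat.gcd (q + 1) 2 = H823.O8S.mt q := by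
  rw [H823.O8S.mt, Nat.gcd_comm (q + 1) 2]
  have h : Nat.gcd 2 (q + 1) = Nat.gcd 2 (q - 1) := by
    obtain ⟨m, rfl⟩ : ∃ m, q = m + 1 := ⟨q - 1, by omega⟩
    have h1 : m + 1 + 1 = m + 2 := rfl
    rw [h1, Nat.add_sub_cancel, Nat.gcd_add_self_right]
  rw [h]

/-- (O2), with the hypotheses which are needed -/
theorem exists_wit_core (hF : Nat.card F = p ^ a) (hp : p.Prime) (hr2 : Odd (r ^ k)) (hk : 1 < r ^ k)
    (hdvd : r ^ k ∣ p ^ (3 * a) + 1) :
    ∃ (x t : GL I8 F) (J J' : Module.End F (I8 → F)) (c d : F), Wit x t (r ^ k) ∧ Two x t J J' c d := by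
  have hF' : Fintype.card F = p ^ a := by rw [← Nat.card_eq_fintype_card]; exact hF
  have hN : r ^ k ∣ Fintype.card F ^ 3 + 1 := by
    have h1 : Fintype.card F ^ 3 + 1 = p ^ (3 * a) + 1 := by
      rw [hF', ← pow_mul, mul_comm a 3]
    rw [h1]
    exact hdvd
  obtain ⟨K, _, _, _, σ, φ, ω, μ, α, c, h6, D, hω, hμ, hμσ⟩ := exists_dat hp hF' hN
  obtain ⟨e, he⟩ := exists_plus_equiv 4 (QV σ φ c) D.nondeg (by
    rw [Module.finrank_prod, Module.finrank_prod, Module.finrank_self, h6]) (D.isPlus h6)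
  have he' : ∀ v, quadFormPlus 4 F (e v) = QV σ φ c v := by
    intro v
    rw [← he, LieClassical.QuadForms.coe_plusForm]
  have hcoe : (⇑(quadPlus 4 F)) = quadFormPlus 4 F := coe_quadPlus 4 F
  have hsq : ∀ g : GL I8 F, g ∈ isometryGroup F (quadFormPlus 4 F) → g ^ 2 ∈ omegaGL (quadFormPlus 4 F) := by
    intro g hg
    rw [← hcoe] at hg ⊢
    exact sq_mem_omegaGL quadPlus_nondegenerate (Or.inr (by decide)) hg
  have hμ1 : μ ≠ 1 := by
    intro h1
    rw [h1, orderOf_one] at hμ
    omega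
  -- the square root of `μ`
  obtain ⟨m, hm⟩ := hr2
  have hν : (μ ^ (m + 1)) ^ 2 = μ := by
    rw [← pow_mul]
    have h1 : (m + 1) * 2 = orderOf μ + 1 := by rw [hμ, hm]; ring
    rw [h1, pow_succ, pow_orderOf_eq_one, one_mul]
  have hνσ : ((μ ^ (m + 1) : Kˣ) : K) * σ ((μ ^ (m + 1) : Kˣ) : K) = 1 := by
    rw [Units.val_pow_eq_pow_val, map_pow, ← mul_pow, hμσ, one_pow]
  have hωσ := D.om
  set x : GL I8 F := Phi e (mulK F μ) with hx
  set t : GL I8 F := Phi e (rotV K c ^ 2) with ht
  let J₀ : Module.End F (K × (F × F)) := ((mulK F ω * rotV K c : (K × (F × F)) ≃ₗ[F] (K × (F × F))) :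
    (K × (F × F)) →ₗ[F] (K × (F × F)))
  let J₁ : Module.End F (K × (F × F)) := ((mulK F ω * (rotV K c).symm : (K × (F × F)) ≃ₗ[F] (K × (F × F))) :
    (K × (F × F)) →ₗ[F] (K × (F × F)))
  have hJ₀ : ∀ v, J₀ v = ((ω : K) * v.1, rot c v.2) := fun v => rfl
  have hJ₁ : ∀ v, J₁ v = ((ω : K) * v.1, (rot c).symm v.2) := fun v => rfl
  have hxv : ∀ v, lin x v = e ((μ : K) * (e.symm v).1, (e.symm v).2) := fun v => lin_Phi e _ v
  have htv : ∀ v, lin t v = e ((e.symm v).1, rot c (rot c (e.symm v).2)) := fun v => by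
    rw [ht, lin_Phi, pow_two, LinearEquiv.mul_apply, rotV_apply, rotV_apply]
  have hirr : ∀ z : F, z * z - c * z + 1 ≠ 0 := by
    intro z hz
    have h1 := congrArg (algebraMap F K) hz
    rw [map_add, map_sub, map_mul, map_mul, D.tr, map_one, map_zero] at h1
    have h2 : (algebraMap F K z - ω) * (algebraMap F K z - σ ω) = 0 := by linear_combination h1 + D.om
    rcases mul_eq_zero.1 h2 with h3 | h3
    · exact D.nmem z (sub_eq_zero.1 h3)
    · have h4 := congrArg σ (sub_eq_zero.1 h3)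
      rw [D.inv, AlgHom.commutes] at h4
      exact D.nmem z h4
  refine ⟨x, t, tr e J₀, tr e J₁, c, 1, ?_, ?_⟩
  · refine ⟨?_, ?_, ?_, ?_, ?_, ?_, ?_, ?_⟩
    · have h1 : x = Phi e (mulK F (μ ^ (m + 1))) ^ 2 := by
        rw [← map_pow, ← map_pow, hν]
      rw [h1]
      exact hsq _ (Phi_mem e he' (QV_mulK hνσ))
    · rw [ht, map_pow]
      exact hsq _ (Phi_mem e he' QV_rotV)
    · rw [hx, orderOf_injective (Phi e) (Phi_injective e), orderOf_injective (mulK F) mulK_injective, hμ]
    · rw [ht, orderOf_injective (Phi e) (Phi_injective e), orderOf_pow' _ (by norm_num), D.orderOf_rotV, hω,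
        Nat.card_eq_fintype_card]
      exact mt_eq Fintype.card_pos
    · rw [hx, ht, ← map_mul, ← map_mul]
      congr 1
    · rw [hx, cm_mulK e hμ1, finrank_PK, h6]
    · rw [ht, D.cm_rotV e, finrank_PE]
    · rw [ht, D.cm_rotV e, hx, fx_mulK e hμ1]
  · refine ⟨⟨?_, hirr, ?_⟩, ⟨?_, hirr, ?_⟩, ?_, ?_, ?_, ?_, ?_, ?_⟩
    · apply LinearMap.ext
      intro v
      change tr e J₀ (tr e J₀ v) = c • tr e J₀ v - (1 : F) • v
      rw [tr_apply, tr_apply, e.symm_apply_apply, one_smul]
      conv_rhs => rw [← e.apply_symm_apply v, e.symm_apply_apply]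
      rw [← map_smul, ← map_sub]
      congr 1
      rw [hJ₀, hJ₀]
      refine Prod.ext ?_ ?_
      · rw [Prod.fst_sub, Prod.smul_fst, Algebra.smul_def]
        simp only
        linear_combination (e.symm v).1 * D.sq
      · rw [Prod.snd_sub, Prod.smul_snd]
        simp only [rot_apply]
        refine Prod.ext ?_ ?_
        · simp only [Prod.fst_sub, Prod.smul_fst, smul_eq_mul]
          ring
        · simp only [Prod.snd_sub, Prod.smul_snd, smul_eq_mul]
          ring
    · intro v
      rw [tr_apply, he', one_mul]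
      conv_rhs => rw [← e.apply_symm_apply v, he']
      exact (QV_mulK hωσ _).trans (QV_rotV _)
    · apply LinearMap.ext
      intro v
      change tr e J₁ (tr e J₁ v) = c • tr e J₁ v - (1 : F) • v
      rw [tr_apply, tr_apply, e.symm_apply_apply, one_smul]
      conv_rhs => rw [← e.apply_symm_apply v, e.symm_apply_apply]
      rw [← map_smul, ← map_sub]
      congr 1
      rw [hJ₁, hJ₁]
      refine Prod.ext ?_ ?_
      · rw [Prod.fst_sub, Prod.smul_fst, Algebra.smul_def]
        simp only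
        linear_combination (e.symm v).1 * D.sq
      · rw [Prod.snd_sub, Prod.smul_snd]
        simp only [rot_symm_apply]
        refine Prod.ext ?_ ?_
        · simp only [Prod.fst_sub, Prod.smul_fst, smul_eq_mul]
          ring
        · simp only [Prod.snd_sub, Prod.smul_snd, smul_eq_mul]
          ring
    · intro v
      rw [tr_apply, he', one_mul]
      conv_rhs => rw [← e.apply_symm_apply v, he']
      refine (QV_mulK hωσ _).trans ?_
      rw [← QV_rotV]
      exact congrArg _ ((rotV K c).apply_symm_apply _)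
    · apply LinearMap.ext
      intro v
      change tr e J₀ (lin x v) = lin x (tr e J₀ v)
      rw [tr_apply, hxv, hxv, tr_apply, e.symm_apply_apply, e.symm_apply_apply, hJ₀, hJ₀]
      congr 1
      exact Prod.ext (mul_left_comm _ _ _) rfl
    · apply LinearMap.ext
      intro v
      change tr e J₀ (lin t v) = lin t (tr e J₀ v)
      rw [tr_apply, htv, htv, tr_apply, e.symm_apply_apply, e.symm_apply_apply, hJ₀, hJ₀]
    · apply LinearMap.ext
      intro v
      change tr e J₁ (lin x v) = lin x (tr e J₁ v)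
      rw [tr_apply, hxv, hxv, tr_apply, e.symm_apply_apply, e.symm_apply_apply, hJ₁, hJ₁]
      congr 1
      exact Prod.ext (mul_left_comm _ _ _) rfl
    · apply LinearMap.ext
      intro v
      change tr e J₁ (lin t v) = lin t (tr e J₁ v)
      rw [tr_apply, htv, htv, tr_apply, e.symm_apply_apply, e.symm_apply_apply, hJ₁, hJ₁]
      simp only [LinearEquiv.symm_apply_apply, LinearEquiv.apply_symm_apply]
    · intro v hv
      rw [hx, cm_mulK e hμ1, mem_PK] at hv
      rw [tr_apply, tr_apply, hJ₀, hJ₁, hv, map_zero, map_zero]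
    · intro v hv
      rw [hx, fx_mulK e hμ1, mem_PE] at hv
      rw [tr_apply, tr_apply]
      conv_rhs => rw [← e.apply_symm_apply v, e.symm_apply_apply]
      rw [← map_smul, ← map_sub]
      congr 1
      rw [hJ₀, hJ₁, hv]
      refine Prod.ext ?_ ?_
      · rw [Prod.fst_sub, Prod.smul_fst]
        simp only [hv, mul_zero, smul_zero, sub_zero]
      · rw [Prod.snd_sub, Prod.smul_snd]
        simp only [rot_apply, rot_symm_apply]
        refine Prod.ext ?_ ?_
        · simp only [Prod.fst_sub, Prod.smul_fst, smul_eq_mul]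
          ring
        · simp only [Prod.snd_sub, Prod.smul_snd, smul_eq_mul]
          ring

/-- (O2) existence of `x`, `t` and of the two fields -/
theorem exists_wit (hF : Nat.card F = p ^ a) (h : RK p a r k) :
    ∃ (x t : GL I8 F) (J J' : Module.End F (I8 → F)) (c d : F), Wit x t (r ^ k) ∧ Two x t J J' c d := by
  refine exists_wit_core hF h.hp ?_ ?_ h.dvd
  · have hr : Odd r := by
      refine h.prim.prime.odd_of_ne_two fun h2 => ?_
      rcases h.cases with h3 | h3 <;> omega
    exact hr.pow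
  · rcases h.cases with h3 | h3
    · rw [h3.2, pow_one]
      omega
    · rw [h3.1, h3.2]
      norm_num

end Main

end Cfsg.Agent.H466.O8S
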