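import Cfsg.Agent.H466.O8S.Wit
import Cfsg.Agent.H823.O8S.Base

/-!
# S3938-OPLUS8 (O2): `exists_wit` from the weak hypotheses `RW`
-/

set_option autoImplicit false

namespace Cfsg.Agent.H466.O8S

open Cfsg.Agent.H708.O8 (I8 T8)
open Cfsg.Agent.H823.O8S
open scoped MatrixGroups Matrix

/-- (O2) existence of `x`, `t` and of the two fields -/
theorem exists_wit_w {F : Type} [Field F] [Fintype F] {p a r k : ℕ} (hF : Nat.card F = p ^ a) (h : RW p a r k) :
    ∃ (x t : GL I8 F) (J J' : Module.End F (I8 → F)) (c d : F), Wit x t (r ^ k) ∧ Two x t J J' c d := by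
  have ha := h.ha
  refine exists_wit_core hF h.hp ?_ (Nat.one_lt_pow (by have := h.hk; omega) h.prim.prime.one_lt) h.dvd
  exact (Nat.odd_iff.2 (h.prim.odd (by omega))).pow

end Cfsg.Agent.H466.O8S
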